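import Mathlib

set_option linter.unusedSectionVars false
set_option linter.unusedVariables false
set_option linter.unusedSimpArgs false
set_option autoImplicit false
set_option linter.style.haveILetI false
set_option maxHeartbeats 400000

noncomputable section

namespace Groth.Agent.Helper6.Giraud

open CategoryTheory Limits Opposite

universe w u

variable {C : Type u} [SmallCategory C]

/-- Natural families from a `Type u`-valued presheaf to a `Type w`-valued presheaf. -/
@[ext]
structure Fam (P : Cᵒᵖ ⥤ Type u) (G₀ : Cᵒᵖ ⥤ Type w) where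
  app : ∀ c : Cᵒᵖ, P.obj c → G₀.obj c
  nat : ∀ {c d : Cᵒᵖ} (f : c ⟶ d) (x : P.obj c), app d (P.map f x) = G₀.map f (app c x)

variable {G₀ : Cᵒᵖ ⥤ Type w}

/-- Precomposition of a family with a morphism of presheaves. -/
def Fam.comp {P Q : Cᵒᵖ ⥤ Type u} (ι : P ⟶ Q) (β : Fam Q G₀) : Fam P G₀ where
  app c x := β.app c (ι.app c x)
  nat {c d} f x := by
    rw [← β.nat]
    congr 1
    exact NatTrans.naturality_apply ι f x

@[simp]
theorem Fam.comp_app {P Q : Cᵒᵖ ⥤ Type u} (ι : P ⟶ Q) (β : Fam Q G₀) (c : Cᵒᵖ) (x : P.obj c) :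
    (β.comp ι).app c x = β.app c (ι.app c x) := rfl

theorem Fam.comp_comp {P Q R : Cᵒᵖ ⥤ Type u} (ι : P ⟶ Q) (κ : Q ⟶ R) (β : Fam R G₀) :
    β.comp (ι ≫ κ) = (β.comp κ).comp ι := rfl

theorem Fam.comp_id {P : Cᵒᵖ ⥤ Type u} (β : Fam P G₀) : β.comp (𝟙 P) = β := rfl

variable (J : GrothendieckTopology C)

/-- Gluing lemma: families into a sheaf extend uniquely along locally bijective maps. -/
theorem Fam.comp_bijective {P Q : Cᵒᵖ ⥤ Type u} (ι : P ⟶ Q)
    [Presheaf.IsLocallyInjective J ι] [Presheaf.IsLocallySurjective J ι]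
    (hG : Presieve.IsSheaf J G₀) :
    Function.Bijective (fun β : Fam Q G₀ => β.comp ι) := by
  constructor
  · intro β β' h
    ext c q
    refine (hG.isSeparated _ (Presheaf.imageSieve_mem J ι q)).ext ?_
    rintro d g ⟨p, hp⟩
    rw [← β.nat, ← β'.nat, ← hp]
    exact congrFun (congrFun (congrArg Fam.app h) (op d)) p
  · intro α
    have wd : ∀ (c : Cᵒᵖ) (p p' : P.obj c), ι.app c p = ι.app c p' →
        α.app c p = α.app c p' := by
      intro c p p' h
      refine (hG.isSeparated _ (Presheaf.equalizerSieve_mem J ι p p' h)).ext ?_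
      intro d g hg
      rw [← α.nat, ← α.nat]
      exact congrArg _ hg
    -- the local family attached to a section `q`
    let x : ∀ (c : Cᵒᵖ) (q : Q.obj c),
        Presieve.FamilyOfElements G₀ (Presheaf.imageSieve ι q).arrows :=
      fun c q d g hg => α.app (op d) hg.choose
    have hx : ∀ (c : Cᵒᵖ) (q : Q.obj c), (x c q).Compatible := by
      intro c q d₁ d₂ e g₁ g₂ f₁ f₂ h₁ h₂ hcomm
      dsimp only [x]
      rw [← α.nat, ← α.nat]
      apply wd
      have e1 := NatTrans.naturality_apply ι g₁.op h₁.choose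
      have e2 := NatTrans.naturality_apply ι g₂.op h₂.choose
      rw [e1, e2, h₁.choose_spec, h₂.choose_spec]
      rw [← FunctorToTypes.map_comp_apply, ← FunctorToTypes.map_comp_apply, ← op_comp, ← op_comp,
        hcomm]
    let β : ∀ (c : Cᵒᵖ), Q.obj c → G₀.obj c := fun c q =>
      (hG _ (Presheaf.imageSieve_mem J ι q)).amalgamate (x c q) (hx c q)
    have KP : ∀ (c : Cᵒᵖ) (q : Q.obj c) (d : C) (g : d ⟶ c.unop) (p : P.obj (op d)),
        ι.app (op d) p = Q.map g.op q → G₀.map g.op (β c q) = α.app (op d) p := by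
      intro c q d g p hp
      have hg : (Presheaf.imageSieve ι q).arrows g := ⟨p, hp⟩
      have := (hG _ (Presheaf.imageSieve_mem J ι q)).valid_glue (hx c q) g hg
      rw [this]
      dsimp only [x]
      apply wd
      rw [hg.choose_spec, hp]
    refine ⟨⟨β, ?_⟩, ?_⟩
    · intro c c' f q
      refine (hG.isSeparated _ (Presheaf.imageSieve_mem J ι (Q.map f q))).ext ?_
      rintro d g ⟨p, hp⟩
      rw [KP c' (Q.map f q) d g p hp]
      rw [← FunctorToTypes.map_comp_apply]
      have : f ≫ g.op = (g ≫ f.unop).op := by simp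
      rw [this]
      refine (KP c q d (g ≫ f.unop) p ?_).symm
      rw [hp, ← FunctorToTypes.map_comp_apply, this]
    · ext c p
      have := KP c (ι.app c p) c.unop (𝟙 _) p (by simp)
      simpa using this

end Groth.Agent.Helper6.Giraud
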