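import Mathlib
import Groth.Prelude.Def_SGA4a

set_option linter.unusedSectionVars false
set_option linter.unusedVariables false
set_option linter.unusedSimpArgs false
set_option autoImplicit false
set_option linter.style.haveILetI false
set_option maxHeartbeats 400000

noncomputable section

namespace Groth.Agent.Helper6.Giraud

open CategoryTheory Limits

universe v u

attribute [local simp] prod.lift_fst prod.lift_snd prod.lift_fst_assoc prod.lift_snd_assoc

variable {E : Type v} [Category.{u} E] [HasTerminal E] [HasBinaryProducts E]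

section basic

variable (U : E) (hU : Mono (terminal.from U))

include hU in
/-- Any two morphisms to a subterminal object agree. -/
theorem sub_hom_ext {T : E} (a b : T ⟶ U) : a = b := by
  rw [← cancel_mono (terminal.from U)]
  exact Subsingleton.elim _ _

include hU in
theorem mono_snd (X : E) : Mono (prod.snd : U ⨯ X ⟶ X) := by
  constructor
  intro T a b h
  exact Limits.prod.hom_ext (sub_hom_ext U hU _ _) h

/-- Morphisms from an object over `U` to an object of the closed complement are unique. -/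
theorem closed_unique {Z : E} (hZ : SGA4.closedCompl U Z) {T : E} (t : T ⟶ U) (a b : T ⟶ Z) :
    a = b := by
  have : IsIso (prod.fst : U ⨯ Z ⟶ U) := hZ
  have h1 : prod.lift t a = prod.lift t b := by
    rw [← cancel_mono (prod.fst : U ⨯ Z ⟶ U)]
    simp
  have := congrArg (fun k => k ≫ (prod.snd : U ⨯ Z ⟶ Z)) h1
  simpa using this

theorem closed_of_snd_eq {Z : E} (z : U ⟶ Z)
    (h : (prod.snd : U ⨯ Z ⟶ Z) = prod.fst ≫ z) : SGA4.closedCompl U Z := by
  change IsIso (prod.fst : U ⨯ Z ⟶ U)
  refine ⟨prod.lift (𝟙 U) z, ?_, by simp⟩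
  apply Limits.prod.hom_ext
  · simp
  · simp only [Category.assoc, prod.lift_snd, Category.id_comp]
    exact h.symm

theorem isPullback_prod_snd {A B : E} (f : A ⟶ B) :
    IsPullback (prod.map (𝟙 U) f) (prod.snd : U ⨯ A ⟶ A) (prod.snd : U ⨯ B ⟶ B) f := by
  refine ⟨⟨by simp⟩, ⟨PullbackCone.IsLimit.mk _ (fun s => prod.lift (s.fst ≫ prod.fst) s.snd)
    ?_ ?_ ?_⟩⟩
  · intro s
    apply Limits.prod.hom_ext
    · simp
    · simpa using s.condition.symm
  · intro s
    simp
  · intro s m h1 h2
    apply Limits.prod.hom_ext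
    · have := congrArg (fun k => k ≫ (prod.fst : U ⨯ B ⟶ U)) h1
      simpa using this
    · simpa using h2

end basic

section pushout

variable [HasPullbacks E] [HasPushouts E] [Adhesive E] (U : E) (hU : Mono (terminal.from U))

/-- The candidate reflection of `X` into the closed complement of `U`. -/
abbrev PP (X : E) : E := pushout (prod.fst : U ⨯ X ⟶ U) (prod.snd : U ⨯ X ⟶ X)

include hU in
theorem snd_eq_fst_inl (X : E) :
    (prod.snd : U ⨯ PP U X ⟶ PP U X) = prod.fst ≫ pushout.inl _ _ := by
  haveI := mono_snd U hU X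
  have H : IsPushout (prod.snd : U ⨯ X ⟶ X) (prod.fst : U ⨯ X ⟶ U)
      (pushout.inr _ _) (pushout.inl _ _) := (IsPushout.of_hasPushout _ _).flip
  refine Adhesive.isPushout_isPullback_isPullback_hom_ext H
    (isPullback_prod_snd U (pushout.inr _ _)) (isPullback_prod_snd U (pushout.inl _ _)) ?_ ?_
  · simp only [prod.map_snd, prod.map_fst_assoc, Category.id_comp]
    exact pushout.condition.symm
  · simp only [prod.map_snd, prod.map_fst_assoc, Category.id_comp]
    rw [sub_hom_ext U hU (prod.snd : U ⨯ U ⟶ U) prod.fst]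

include hU in
theorem PP_closed (X : E) : SGA4.closedCompl U (PP U X) :=
  closed_of_snd_eq U (pushout.inl _ _) (snd_eq_fst_inl U hU X)

/-- Descent of a morphism to a closed object along `X ⟶ PP U X`. -/
def PPdesc {X Z : E} (hZ : SGA4.closedCompl U Z) (φ : X ⟶ Z) : PP U X ⟶ Z :=
  haveI : IsIso (prod.fst : U ⨯ Z ⟶ U) := hZ
  pushout.desc (inv (prod.fst : U ⨯ Z ⟶ U) ≫ prod.snd) φ
    (closed_unique U hZ prod.fst _ _)

@[reassoc (attr := simp)]
theorem inr_PPdesc {X Z : E} (hZ : SGA4.closedCompl U Z) (φ : X ⟶ Z) :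
    pushout.inr _ _ ≫ PPdesc U hZ φ = φ := by
  unfold PPdesc
  exact pushout.inr_desc _ _ _

theorem PP_hom_ext {X Z : E} (hZ : SGA4.closedCompl U Z) (a b : PP U X ⟶ Z)
    (h : pushout.inr _ _ ≫ a = pushout.inr _ _ ≫ b) : a = b := by
  apply pushout.hom_ext
  · exact closed_unique U hZ (𝟙 U) _ _
  · exact h

/-- Object part of the reflector. -/
def Lobj (X : E) : (SGA4.closedCompl U).FullSubcategory := ⟨PP U X, PP_closed U hU X⟩

/-- The hom-set bijection for the reflector. -/
def Lequiv (X : E) (Y : (SGA4.closedCompl U).FullSubcategory) :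
    (Lobj U hU X ⟶ Y) ≃ (X ⟶ (SGA4.closedCompl U).ι.obj Y) where
  toFun g := pushout.inr _ _ ≫ g.hom
  invFun φ := ObjectProperty.homMk (PPdesc U Y.property φ)
  left_inv g := by
    apply ObjectProperty.hom_ext
    apply PP_hom_ext U Y.property
    simp
  right_inv φ := by
    simp

/-- The reflector onto the closed complement. -/
def L₀ : E ⥤ (SGA4.closedCompl U).FullSubcategory :=
  Adjunction.leftAdjointOfEquiv (Lequiv U hU) (by
    intro X Y Y' g h
    exact (Category.assoc _ _ _).symm)

/-- The reflector is left adjoint to the inclusion. -/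
def adj₀ : L₀ U hU ⊣ (SGA4.closedCompl U).ι :=
  Adjunction.adjunctionOfEquivLeft (Lequiv U hU) _

theorem L₀_obj (X : E) : ((L₀ U hU).obj X).obj = PP U X := rfl

theorem inr_L₀_map {X Y : E} (m : X ⟶ Y) :
    pushout.inr _ _ ≫ ((L₀ U hU).map m).hom = m ≫ pushout.inr _ _ := by
  have : (L₀ U hU).map m =
      (Lequiv U hU X (Lobj U hU Y)).symm (m ≫ Lequiv U hU Y (Lobj U hU Y) (𝟙 _)) := rfl
  rw [this]
  change pushout.inr _ _ ≫ PPdesc U (PP_closed U hU Y) (m ≫ pushout.inr _ _ ≫ 𝟙 (PP U Y)) = _
  rw [inr_PPdesc, Category.comp_id]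

end pushout

end Groth.Agent.Helper6.Giraud
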