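import Mathlib

set_option linter.unusedSectionVars false
set_option linter.unusedVariables false
set_option linter.unusedSimpArgs false
set_option autoImplicit false
set_option linter.style.haveILetI false
set_option maxHeartbeats 400000

noncomputable section

namespace Groth.Agent.Helper6.Giraud

open CategoryTheory Limits Opposite

universe u

variable {C : Type u} [SmallCategory C] (Up : Cᵒᵖ ⥤ Type u)

/-- "`U(c)` is empty", as a type in `Type u`. -/
def AA (c : Cᵒᵖ) : Type u := ULift.{u} (PLift (IsEmpty (Up.obj c)))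

instance (c : Cᵒᵖ) : Subsingleton (AA Up c) := by unfold AA; infer_instance

def AAmk {c : Cᵒᵖ} (h : IsEmpty (Up.obj c)) : AA Up c := ⟨⟨h⟩⟩

theorem AA_isEmpty {c : Cᵒᵖ} (a : AA Up c) : IsEmpty (Up.obj c) := a.down.down

theorem AA_isEmpty_of_nonempty {c : Cᵒᵖ} (h : Nonempty (Up.obj c)) : IsEmpty (AA Up c) :=
  ⟨fun a => (AA_isEmpty Up a).false h.some⟩

def AAmap {c d : Cᵒᵖ} (f : c ⟶ d) : AA Up d ⟶ AA Up c :=
  ↾(fun a => AAmk Up ⟨fun x => (AA_isEmpty Up a).false (Up.map f x)⟩)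

/-- The presheaf `c ↦ (U(c) empty → F(c))`. -/
def Qobj (F : Cᵒᵖ ⥤ Type u) : Cᵒᵖ ⥤ Type u where
  obj c := (AA Up c ⟶ F.obj c)
  map {c d} f := ↾(fun q => AAmap Up f ≫ q ≫ F.map f)
  map_id c := by
    ext q a
    have : AAmap Up (𝟙 c) a = a := Subsingleton.elim _ _
    simp [this]
  map_comp {c d e} f g := by
    ext q a
    have : (AAmap Up f) ((AAmap Up g) a) = AAmap Up (f ≫ g) a := Subsingleton.elim _ _
    simp [this]

/-- Apply an element of `Q F (c)` to a witness of emptiness. -/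
def Qapp {F : Cᵒᵖ ⥤ Type u} {c : Cᵒᵖ} (q : (Qobj Up F).obj c) (a : AA Up c) : F.obj c :=
  (show AA Up c ⟶ F.obj c from q) a

theorem Q_ext {F : Cᵒᵖ ⥤ Type u} {c : Cᵒᵖ} (q q' : (Qobj Up F).obj c)
    (h : ∀ a, Qapp Up q a = Qapp Up q' a) : q = q' := by
  change (show AA Up c ⟶ F.obj c from q) = (show AA Up c ⟶ F.obj c from q')
  apply ConcreteCategory.hom_ext
  exact h

theorem Qobj_map_apply (F : Cᵒᵖ ⥤ Type u) {c d : Cᵒᵖ} (f : c ⟶ d) (q : (Qobj Up F).obj c)
    (a : AA Up d) :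
    Qapp Up ((Qobj Up F).map f q) a = F.map f (Qapp Up q (AAmap Up f a)) := rfl

/-- The functor `Q`. -/
def Q : (Cᵒᵖ ⥤ Type u) ⥤ (Cᵒᵖ ⥤ Type u) where
  obj F := Qobj Up F
  map {F G} φ :=
    { app := fun c => (coyoneda.obj (op (AA Up c))).map (φ.app c)
      naturality := by
        intro c d f
        ext q
        apply Q_ext
        intro a
        change (φ.app d) (F.map f (Qapp Up q (AAmap Up f a))) =
          G.map f ((φ.app c) (Qapp Up q (AAmap Up f a)))
        exact NatTrans.naturality_apply φ f _ }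
  map_id F := by
    ext c q
    apply Q_ext
    intro a
    rfl
  map_comp φ ψ := by
    ext c q
    apply Q_ext
    intro a
    rfl

theorem Q_map_apply {F G : Cᵒᵖ ⥤ Type u} (φ : F ⟶ G) (c : Cᵒᵖ) (q : (Qobj Up F).obj c)
    (a : AA Up c) :
    Qapp Up (((Q Up).map φ).app c q) a = φ.app c (Qapp Up q a) := rfl

/-- Evaluating `Q` is a corepresentable functor after evaluation. -/
def QevIso (c : Cᵒᵖ) : Q Up ⋙ (evaluation Cᵒᵖ (Type u)).obj c ≅
    (evaluation Cᵒᵖ (Type u)).obj c ⋙ coyoneda.obj (op (AA Up c)) :=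
  NatIso.ofComponents (fun F => Iso.refl _) (by
    intro F G φ
    rfl)

instance Q_preservesLimits : PreservesLimitsOfSize.{u, u} (Q Up) :=
  preservesLimits_of_evaluation _ fun c =>
    preservesLimits_of_natIso (QevIso Up c).symm

/-- Constant function as an element of `Q F (c)`. -/
def Qconst {F : Cᵒᵖ ⥤ Type u} {c : Cᵒᵖ} (x : F.obj c) : (Qobj Up F).obj c :=
  (↾(fun _ => x) : AA Up c ⟶ F.obj c)

theorem Qapp_Qconst {F : Cᵒᵖ ⥤ Type u} {c : Cᵒᵖ} (x : F.obj c) (a : AA Up c) :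
    Qapp Up (Qconst Up x) a = x := rfl

/-- The unit `F ⟶ Q F` (constant functions). -/
def ηQ : 𝟭 (Cᵒᵖ ⥤ Type u) ⟶ Q Up where
  app F :=
    { app := fun c => ↾(fun x => Qconst Up x)
      naturality := by
        intro c d f
        ext x
        apply Q_ext
        intro a
        rfl }
  naturality := by
    intro F G φ
    ext c x
    apply Q_ext
    intro a
    rfl

theorem ηQ_app_apply (F : Cᵒᵖ ⥤ Type u) (c : Cᵒᵖ) (x : F.obj c) :
    ((ηQ Up).app F).app c x = Qconst Up x := rfl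

theorem Q_eq_const (F : Cᵒᵖ ⥤ Type u) (c : Cᵒᵖ) (a : AA Up c) (q : (Qobj Up F).obj c) :
    q = Qconst Up (Qapp Up q a) := by
  apply Q_ext
  intro a'
  have : a' = a := Subsingleton.elim _ _
  subst this
  rfl

theorem Q_subsingleton (F : Cᵒᵖ ⥤ Type u) (c : Cᵒᵖ) (h : Nonempty (Up.obj c)) :
    Subsingleton ((Qobj Up F).obj c) := by
  constructor
  intro q q'
  apply Q_ext
  intro a
  exact ((AA_isEmpty_of_nonempty Up h).false a).elim

end Groth.Agent.Helper6.Giraud
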