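import Mathlib
import Groth.Prelude.Def_SGA4a
import Groth.Agent.Lib.Helper6.Giraud.ClosedCompl
import Groth.Agent.Lib.Helper6.Giraud.QFunctor

set_option linter.unusedSectionVars false
set_option linter.unusedVariables false
set_option linter.unusedSimpArgs false
set_option autoImplicit false
set_option linter.style.haveILetI false
set_option maxHeartbeats 400000

noncomputable section

namespace Groth.Agent.Helper6.Giraud

open CategoryTheory Limits Opposite

universe u

variable {C : Type u} [SmallCategory C] (J : GrothendieckTopology C)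

/-- Sections of a sheaf over `c` are morphisms from the sheafified representable. -/
def secEquiv (Z : Sheaf J (Type u)) (c : Cᵒᵖ) :
    ((presheafToSheaf J (Type u)).obj (yoneda.obj c.unop) ⟶ Z) ≃ Z.obj.obj c :=
  ((sheafificationAdjunction J (Type u)).homEquiv (yoneda.obj c.unop) Z).trans yonedaEquiv

variable (U : Sheaf J (Type u)) (hU : Mono (terminal.from U))

include hU in
theorem U_subsingleton (c : Cᵒᵖ) : Subsingleton (U.obj.obj c) :=
  ⟨fun x y => by
    have := sub_hom_ext U hU ((secEquiv J U c).symm x) ((secEquiv J U c).symm y)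
    exact (secEquiv J U c).symm.injective this⟩

theorem closed_sections_subsingleton {Z : Sheaf J (Type u)} (hZ : SGA4.closedCompl U Z)
    (c : Cᵒᵖ) (h : Nonempty (U.obj.obj c)) : Subsingleton (Z.obj.obj c) :=
  ⟨fun x y => by
    obtain ⟨w⟩ := h
    have := closed_unique U hZ ((secEquiv J U c).symm w) ((secEquiv J Z c).symm x)
      ((secEquiv J Z c).symm y)
    exact (secEquiv J Z c).symm.injective this⟩

theorem closed_sections_nonempty {Z : Sheaf J (Type u)} (hZ : SGA4.closedCompl U Z)
    (c : Cᵒᵖ) (h : Nonempty (U.obj.obj c)) : Nonempty (Z.obj.obj c) := by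
  obtain ⟨w⟩ := h
  have : IsIso (prod.fst : U ⨯ Z ⟶ U) := hZ
  exact ⟨(inv (prod.fst : U ⨯ Z ⟶ U) ≫ prod.snd).hom.app c w⟩

/-- Two morphisms of sheaves agree if the target has subsingleton sections wherever the source
has sections. -/
theorem sheaf_hom_ext_of_subsingleton {T Z : Sheaf J (Type u)} (a b : T ⟶ Z)
    (h : ∀ c : Cᵒᵖ, Nonempty (T.obj.obj c) → Subsingleton (Z.obj.obj c)) : a = b := by
  apply ObjectProperty.hom_ext
  ext c x
  haveI := h c ⟨x⟩
  exact Subsingleton.elim _ _

/-- The sheafification of a presheaf which is subsingleton-valued below `c` is subsingleton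
at `c`. -/
theorem sheafify_subsingleton (F : Cᵒᵖ ⥤ Type u) (c : C)
    (h : ∀ (d : C) (f : d ⟶ c), Subsingleton (F.obj (op d))) :
    Subsingleton ((sheafify J F).obj (op c)) := by
  constructor
  intro s t
  have hsh : Presieve.IsSheaf J (sheafify J F) :=
    (isSheaf_iff_isSheaf_of_type _ _).mp ((presheafToSheaf J (Type u)).obj F).property
  have hs := Presheaf.imageSieve_mem J (toSheafify J F) (U := op c) s
  have ht := Presheaf.imageSieve_mem J (toSheafify J F) (U := op c) t
  refine (hsh.isSeparated _ (J.intersection_covering hs ht)).ext ?_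
  rintro d f ⟨⟨x, hx⟩, ⟨y, hy⟩⟩
  haveI := h d f
  rw [← hx, ← hy, Subsingleton.elim x y]

end Groth.Agent.Helper6.Giraud
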