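import Mathlib
import Groth.Agent.Lib.Helper6.Giraud.ClosedSections

set_option linter.unusedSectionVars false
set_option linter.unusedVariables false
set_option linter.unusedSimpArgs false
set_option autoImplicit false
set_option linter.style.haveILetI false
set_option maxHeartbeats 400000

noncomputable section

namespace Groth.Agent.Helper6.Giraud

open CategoryTheory Limits Opposite

universe u

variable {C : Type u} [SmallCategory C] (J : GrothendieckTopology C)

/-- The sheafified representable. -/
abbrev yS (c : C) : Sheaf J (Type u) := (presheafToSheaf J (Type u)).obj (yoneda.obj c)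

/-- The functor `c ↦ a(y c)`. -/
abbrev ySF : C ⥤ Sheaf J (Type u) := yoneda ⋙ presheafToSheaf J (Type u)

/-- The universal element of `a(y c)` over `c`. -/
def univ (c : C) : (yS J c).obj.obj (op c) := (toSheafify J (yoneda.obj c)).app (op c) (𝟙 c)

variable {J}

theorem secEquiv_apply {Z : Sheaf J (Type u)} {c : C} (k : yS J c ⟶ Z) :
    secEquiv J Z (op c) k = k.hom.app (op c) (univ J c) := by
  unfold secEquiv univ
  rw [Equiv.trans_apply, Adjunction.homEquiv_unit, yonedaEquiv_apply]
  rfl

/-- The morphism `a(y c) ⟶ X` classified by a section. -/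
def hat {X : Sheaf J (Type u)} {c : C} (x : X.obj.obj (op c)) : yS J c ⟶ X :=
  (secEquiv J X (op c)).symm x

@[simp]
theorem hat_app_univ {X : Sheaf J (Type u)} {c : C} (x : X.obj.obj (op c)) :
    (hat x).hom.app (op c) (univ J c) = x := by
  rw [← secEquiv_apply]
  exact (secEquiv J X (op c)).apply_symm_apply x

theorem hat_ext {X : Sheaf J (Type u)} {c : C} (k k' : yS J c ⟶ X)
    (h : k.hom.app (op c) (univ J c) = k'.hom.app (op c) (univ J c)) : k = k' := by
  apply (secEquiv J X (op c)).injective
  rw [secEquiv_apply, secEquiv_apply, h]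

@[simp]
theorem hat_univ_app {X : Sheaf J (Type u)} {c : C} (k : yS J c ⟶ X) :
    hat (k.hom.app (op c) (univ J c)) = k :=
  hat_ext _ _ (by simp)

theorem hat_comp {X Y : Sheaf J (Type u)} {c : C} (x : X.obj.obj (op c)) (m : X ⟶ Y) :
    hat x ≫ m = hat (m.hom.app (op c) x) :=
  hat_ext _ _ (by simp)

theorem univ_map {c d : C} (g : d ⟶ c) :
    ((ySF J).map g).hom.app (op d) (univ J d) = (yS J c).obj.map g.op (univ J c) := by
  have h1 := NatTrans.congr_app (toSheafify_naturality J (yoneda.map g)) (op d)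
  have h2 := ConcreteCategory.congr_hom h1 (𝟙 d)
  have h3 := NatTrans.naturality_apply (toSheafify J (yoneda.obj c)) g.op (𝟙 c)
  calc ((ySF J).map g).hom.app (op d) (univ J d)
      = (toSheafify J (yoneda.obj d) ≫ sheafifyMap J (yoneda.map g)).app (op d) (𝟙 d) := rfl
    _ = (yoneda.map g ≫ toSheafify J (yoneda.obj c)).app (op d) (𝟙 d) := h2.symm
    _ = (toSheafify J (yoneda.obj c)).app (op d) ((yoneda.obj c).map g.op (𝟙 c)) := by
        change (toSheafify J (yoneda.obj c)).app (op d) ((yoneda.map g).app (op d) (𝟙 d)) = _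
        have : (yoneda.map g).app (op d) (𝟙 d) = (yoneda.obj c).map g.op (𝟙 c) := by simp
        rw [this]
    _ = _ := h3

theorem map_hat {X : Sheaf J (Type u)} {c d : C} (g : d ⟶ c) (x : X.obj.obj (op c)) :
    (ySF J).map g ≫ hat x = hat (X.obj.map g.op x) := by
  apply hat_ext
  have h := NatTrans.naturality_apply (hat x).hom g.op (univ J c)
  simp only [hat_app_univ] at h ⊢
  rw [← h]
  change (hat x).hom.app (op d) (((ySF J).map g).hom.app (op d) (univ J d)) = _
  rw [univ_map]

theorem hat_hom_app {T X : Sheaf J (Type u)} (h : T ⟶ X) {c : C} (t : T.obj.obj (op c)) :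
    hat (h.hom.app (op c) t) = hat t ≫ h := (hat_comp t h).symm

/-- Sections of `a(y c)` are locally representable. -/
theorem yS_locally_representable {c d : C} (w : (yS J c).obj.obj (op d)) :
    ∃ R ∈ J d, ∀ ⦃e : C⦄ (r : e ⟶ d), R r → ∃ g : e ⟶ c,
      (yS J c).obj.map r.op w = (yS J c).obj.map g.op (univ J c) := by
  refine ⟨_, Presheaf.imageSieve_mem J (toSheafify J (yoneda.obj c)) (U := op d) w, ?_⟩
  rintro e r ⟨(g : e ⟶ c), hg⟩
  refine ⟨g, ?_⟩
  rw [← hg]
  have h3 := NatTrans.naturality_apply (toSheafify J (yoneda.obj c)) g.op (𝟙 c)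
  simp only [univ]
  refine Eq.trans ?_ h3
  simp

/-- Representable sections of `a(y c)` are equal iff locally equal. -/
theorem yS_locally_injective {c e : C} (g g' : e ⟶ c)
    (h : (yS J c).obj.map g.op (univ J c) = (yS J c).obj.map g'.op (univ J c)) :
    ∃ R ∈ J e, ∀ ⦃e' : C⦄ (r : e' ⟶ e), R r → r ≫ g = r ≫ g' := by
  have h3 := NatTrans.naturality_apply (toSheafify J (yoneda.obj c)) g.op (𝟙 c)
  have h3' := NatTrans.naturality_apply (toSheafify J (yoneda.obj c)) g'.op (𝟙 c)
  have h4 : (toSheafify J (yoneda.obj c)).app (op e) g =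
      (toSheafify J (yoneda.obj c)).app (op e) g' := by
    have e1 : (yoneda.obj c).map g.op (𝟙 c) = g := by simp
    have e2 : (yoneda.obj c).map g'.op (𝟙 c) = g' := by simp
    rw [e1] at h3
    rw [e2] at h3'
    rw [h3, h3']
    exact h
  refine ⟨_, Presheaf.equalizerSieve_mem J (toSheafify J (yoneda.obj c)) g g' h4, ?_⟩
  intro e' r hr
  exact hr

end Groth.Agent.Helper6.Giraud
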