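import Mathlib
import Groth.Agent.Lib.Helper6.Giraud.Hat
import Groth.Agent.Lib.Helper6.Giraud.Fam

set_option linter.unusedSectionVars false
set_option linter.unusedVariables false
set_option linter.unusedSimpArgs false
set_option autoImplicit false
set_option linter.style.haveILetI false
set_option maxHeartbeats 400000

noncomputable section

namespace Groth.Agent.Helper6.Giraud

open CategoryTheory Limits Opposite

universe w u

variable {C : Type u} [SmallCategory C] {J : GrothendieckTopology C}

/-- `hat` with an explicit `Cᵒᵖ` index. -/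
abbrev hat' {X : Sheaf J (Type u)} (c : Cᵒᵖ) (x : X.obj.obj c) : yS J c.unop ⟶ X :=
  hat (c := c.unop) x

theorem hat'_map {X : Sheaf J (Type u)} {c d : Cᵒᵖ} (g : c ⟶ d) (x : X.obj.obj c) :
    hat' d (X.obj.map g x) = (ySF J).map g.unop ≫ hat' c x :=
  (map_hat (c := c.unop) (d := d.unop) g.unop x).symm

theorem hat'_hom_app {T X : Sheaf J (Type u)} (h : T ⟶ X) (c : Cᵒᵖ) (t : T.obj.obj c) :
    hat' c (h.hom.app c t) = hat' c t ≫ h :=
  hat_hom_app (c := c.unop) h t

/-- The subfunctor of sections whose classifying morphism belongs to the sieve `S`. -/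
def secSub {X : Sheaf J (Type u)} (S : Sieve X) : Subfunctor X.obj where
  obj c := {x | S.arrows (hat' c x)}
  map := by
    intro c d g x hx
    change S.arrows (hat' d (X.obj.map g x))
    rw [hat'_map]
    exact S.downward_closed hx _

theorem mem_secSub {X : Sheaf J (Type u)} (S : Sieve X) (c : Cᵒᵖ) (x : X.obj.obj c) :
    x ∈ (secSub S).obj c ↔ S.arrows (hat' c x) := Iff.rfl

/-- A sieve in the sheaf topos is "locally surjective" if every section is locally in it. -/
def LS {X : Sheaf J (Type u)} (S : Sieve X) : Prop :=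
  ∀ (c : Cᵒᵖ) (x : X.obj.obj c), (secSub S).sieveOfSection x ∈ J c.unop

theorem app_mem_secSub {T X : Sheaf J (Type u)} (S : Sieve X) (f : T ⟶ X) (hf : S.arrows f)
    (c : Cᵒᵖ) (t : T.obj.obj c) : f.hom.app c t ∈ (secSub S).obj c := by
  change S.arrows (hat' c (f.hom.app c t))
  rw [hat'_hom_app]
  exact S.downward_closed hf _

theorem LS.pullback {X Y : Sheaf J (Type u)} {S : Sieve X} (hS : LS S) (f : Y ⟶ X) :
    LS (S.pullback f) := by
  intro c y
  refine J.superset_covering ?_ (hS c (f.hom.app c y))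
  intro d g hg
  change S.arrows (hat' (op d) (Y.obj.map g.op y) ≫ f)
  rw [← hat'_hom_app]
  have := NatTrans.naturality_apply f.hom g.op y
  rw [this]
  exact hg

theorem LS.isLocallySurjective {X : Sheaf J (Type u)} {S : Sieve X} (hS : LS S) :
    Presheaf.IsLocallySurjective J (secSub S).ι where
  imageSieve_mem {c} x := by
    refine J.superset_covering ?_ (hS (op c) x)
    intro d g hg
    exact ⟨⟨_, hg⟩, rfl⟩

/-- The functor `X ↦ Fam X G₀` on the sheaf topos. -/
def Hfun (J : GrothendieckTopology C) (G₀ : Cᵒᵖ ⥤ Type w) :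
    (Sheaf J (Type u))ᵒᵖ ⥤ Type (max u w) where
  obj X := Fam X.unop.obj G₀
  map f := ↾ fun β => β.comp f.unop.hom

@[simp]
theorem Hfun_map_app {G₀ : Cᵒᵖ ⥤ Type w} {X Y : (Sheaf J (Type u))ᵒᵖ} (f : X ⟶ Y)
    (β : Fam X.unop.obj G₀) (c : Cᵒᵖ) (y : Y.unop.obj.obj c) :
    Fam.app ((Hfun J G₀).map f β) c y = β.app c (f.unop.hom.app c y) := rfl

theorem family_congr {G : (Sheaf J (Type u))ᵒᵖ ⥤ Type w} {X : Sheaf J (Type u)} {S : Sieve X}
    (x : Presieve.FamilyOfElements G S.arrows) {T : Sheaf J (Type u)} {f f' : T ⟶ X} (h : f = f')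
    (hf : S.arrows f) (hf' : S.arrows f') : x f hf = x f' hf' := by
  subst h; rfl

/-- (C): `Hfun G₀` satisfies the sheaf condition for locally surjective sieves. -/
theorem Hfun_isSheafFor {G₀ : Cᵒᵖ ⥤ Type w} (hG : Presieve.IsSheaf J G₀)
    {X : Sheaf J (Type u)} (S : Sieve X) (hS : LS S) :
    Presieve.IsSheafFor (Hfun J G₀) S.arrows := by
  intro x hx
  have hx' := hx.to_sieveCompatible
  -- key evaluation lemma
  have key : ∀ {T : Sheaf J (Type u)} (f : T ⟶ X) (hf : S.arrows f) (c : Cᵒᵖ) (t : T.obj.obj c),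
      (x (hat' c t ≫ f) (S.downward_closed hf _)).app c (univ J c.unop) = (x f hf).app c t := by
    intro T f hf c t
    rw [hx' f (hat' c t) hf]
    rw [Hfun_map_app]
    congr 1
    exact hat_app_univ (c := c.unop) t
  let σ : Fam (secSub S).toFunctor G₀ :=
    { app := fun c p => (x (hat' c p.1) p.2).app c (univ J c.unop)
      nat := by
        intro c d g p
        have e1 : hat' d ((secSub S).toFunctor.map g p).1 = (ySF J).map g.unop ≫ hat' c p.1 :=
          hat'_map g p.1
        rw [family_congr x e1 _ (S.downward_closed p.2 _)]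
        rw [hx' (hat' c p.1) ((ySF J).map g.unop) p.2]
        rw [Hfun_map_app]
        rw [← Fam.nat]
        congr 1
        exact univ_map (c := c.unop) (d := d.unop) g.unop }
  haveI := hS.isLocallySurjective
  obtain ⟨β, hβ⟩ := (Fam.comp_bijective J (secSub S).ι hG).2 σ
  have hβ' : ∀ (c : Cᵒᵖ) (p : (secSub S).toFunctor.obj c), β.app c p.1 = σ.app c p := by
    intro c p
    exact congrFun (congrFun (congrArg Fam.app hβ) c) p
  refine ⟨β, ?_, ?_⟩
  · intro T f hf
    refine Fam.ext (funext fun c => funext fun (t : T.obj.obj c) => ?_)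
    change β.app c (f.hom.app c t) = (x f hf).app c t
    have := hβ' c ⟨f.hom.app c t, app_mem_secSub S f hf c t⟩
    refine this.trans ?_
    change (x (hat' c (f.hom.app c t)) _).app c (univ J c.unop) = _
    rw [family_congr x (hat'_hom_app f c t) _ (S.downward_closed hf _)]
    exact key f hf c t
  · intro β' hβ''
    have hβ0 : β.comp (secSub S).ι = σ := hβ
    let β'' : Fam X.obj G₀ := β'
    have hβ''' : ∀ {T : Sheaf J (Type u)} (f : T ⟶ X) (hf : S.arrows f),
        β''.comp f.hom = x f hf := fun f hf => hβ'' f hf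
    change β'' = β
    apply (Fam.comp_bijective J (secSub S).ι hG).1
    change β''.comp _ = β.comp _
    rw [hβ0]
    refine Fam.ext (funext fun c => funext fun p => ?_)
    change β''.app c p.1 = (x (hat' c p.1) p.2).app c (univ J c.unop)
    rw [← hβ''' (hat' c p.1) p.2, Fam.comp_app]
    congr 1
    exact (hat_app_univ (c := c.unop) p.1).symm

end Groth.Agent.Helper6.Giraud
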