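import Mathlib
import Groth.Agent.Lib.Helper6.Giraud.LS

set_option linter.unusedSectionVars false
set_option linter.unusedVariables false
set_option linter.unusedSimpArgs false
set_option autoImplicit false
set_option linter.style.haveILetI false
set_option maxHeartbeats 400000

noncomputable section

namespace Groth.Agent.Helper6.Giraud

open CategoryTheory Limits Opposite

universe w u

variable {C : Type u} [SmallCategory C] {J : GrothendieckTopology C}

/-- Morphisms of sheaves as natural families. -/
def homEquivFam (X Z : Sheaf J (Type u)) : (X ⟶ Z) ≃ Fam X.obj Z.obj where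
  toFun k := ⟨fun c x => k.hom.app c x, fun f x => NatTrans.naturality_apply k.hom f x⟩
  invFun β := ObjectProperty.homMk
    { app := fun c => ↾ β.app c
      naturality := by
        intro c d f
        ext x
        exact β.nat f x }
  left_inv k := by
    apply ObjectProperty.hom_ext
    ext c x
    rfl
  right_inv β := rfl

/-- Representable presheaves on the sheaf topos as `Hfun`. -/
def yonedaIsoHfun (Z : Sheaf J (Type u)) : yoneda.obj Z ≅ Hfun J Z.obj :=
  NatIso.ofComponents (fun X => (homEquivFam X.unop Z).toIso) (by
    intro X Y f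
    ext k
    rfl)

/-- (P1): locally surjective sieves are covering for the canonical topology. -/
theorem LS.mem_canonical {X : Sheaf J (Type u)} {S : Sieve X} (hS : LS S) :
    S ∈ Sheaf.canonicalTopology (Sheaf J (Type u)) X := by
  apply Sheaf.mem_finestTopology_of_forall_isSheafFor
  rintro _ ⟨Z, rfl⟩ Y f
  refine Presieve.isSheafFor_iso (yonedaIsoHfun Z).symm ?_
  exact Hfun_isSheafFor ((isSheaf_iff_isSheaf_of_type _ _).1 Z.property) _ (hS.pullback f)

/-- (P2): covering sieves for the canonical topology are locally surjective. -/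
theorem LS_of_mem_canonical {X : Sheaf J (Type u)} {S : Sieve X}
    (hS : S ∈ Sheaf.canonicalTopology (Sheaf J (Type u)) X) : LS S := by
  let G' : Subfunctor X.obj := (secSub S).sheafify J
  have hX : Presieve.IsSheaf J X.obj := (isSheaf_iff_isSheaf_of_type _ _).1 X.property
  let X' : Sheaf J (Type u) :=
    ⟨G'.toFunctor, (isSheaf_iff_isSheaf_of_type _ _).2 (Subfunctor.sheafify_isSheaf _ hX)⟩
  let ι : X' ⟶ X := ObjectProperty.homMk G'.ι
  have h1 : Presieve.IsSheafFor (yoneda.obj X') S.arrows := Sheaf.isSheaf_yoneda_obj X' _ hS
  have h2 : Presieve.IsSheafFor (yoneda.obj X) S.arrows := Sheaf.isSheaf_yoneda_obj X _ hS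
  let fam : Presieve.FamilyOfElements (yoneda.obj X') S.arrows := fun T f hf =>
    ObjectProperty.homMk
      { app := fun c => ↾ fun t =>
          (⟨f.hom.app c t, (secSub S).le_sheafify J c (app_mem_secSub S f hf c t)⟩ : G'.obj c)
        naturality := by
          intro c d g
          ext t
          apply Subtype.ext
          exact NatTrans.naturality_apply f.hom g t }
  have hfam : ∀ {T : Sheaf J (Type u)} (f : T ⟶ X) (hf : S.arrows f), fam f hf ≫ ι = f := by
    intro T f hf
    apply ObjectProperty.hom_ext
    ext c t
    rfl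
  have hcompat : fam.Compatible := by
    rw [Presieve.compatible_iff_sieveCompatible]
    intro T T' f g hf
    apply ObjectProperty.hom_ext
    ext c t
    apply Subtype.ext
    rfl
  obtain ⟨r, hr, -⟩ := h1 fam hcompat
  have hrι : r ≫ ι = 𝟙 X := by
    refine h2.isSeparatedFor.ext ?_
    intro T f hf
    change f ≫ r ≫ ι = f ≫ 𝟙 X
    have : f ≫ r = fam f hf := hr f hf
    rw [← Category.assoc, this, hfam f hf, Category.comp_id]
  intro c x
  have e1 : (r ≫ ι).hom.app c x = x := by rw [hrι]; rfl
  have e2 : ((r.hom.app c x : G'.obj c) : X.obj.obj c) = x := e1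
  have := (r.hom.app c x : G'.obj c).2
  rw [e2] at this
  exact this

theorem LS_iff_mem_canonical {X : Sheaf J (Type u)} {S : Sieve X} :
    LS S ↔ S ∈ Sheaf.canonicalTopology (Sheaf J (Type u)) X :=
  ⟨LS.mem_canonical, LS_of_mem_canonical⟩

end Groth.Agent.Helper6.Giraud
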