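import Mathlib
import Groth.Agent.Lib.Helper6.Giraud.Canon

set_option linter.unusedSectionVars false
set_option linter.unusedVariables false
set_option linter.unusedSimpArgs false
set_option autoImplicit false
set_option linter.style.haveILetI false
set_option maxHeartbeats 400000

noncomputable section

namespace Groth.Agent.Helper6.Giraud

open CategoryTheory Limits Opposite

universe w u

variable {C : Type u} [SmallCategory C] {J : GrothendieckTopology C}

theorem hat'_univ (c : Cᵒᵖ) : hat' c (univ J c.unop) = 𝟙 (yS J c.unop) := by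
  have := hat_univ_app (J := J) (c := c.unop) (𝟙 (yS J c.unop))
  exact this

theorem hat'_univ_map {c d : Cᵒᵖ} (g : c ⟶ d) :
    hat' d ((yS J c.unop).obj.map g (univ J c.unop)) = (ySF J).map g.unop := by
  rw [hat'_map, hat'_univ]
  exact Category.comp_id _

theorem hat'_injective {X : Sheaf J (Type u)} (c : Cᵒᵖ) (x y : X.obj.obj c)
    (h : hat' c x = hat' c y) : x = y :=
  (secEquiv J X (op c.unop)).symm.injective h

/-- The sieve on which `hat (t|r) ≫ k` becomes representable. -/
def repSieve {T : Sheaf J (Type u)} {c : C} (k : T ⟶ yS J c) (e : Cᵒᵖ) (t : T.obj.obj e) :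
    Sieve e.unop where
  arrows e' r := ∃ h : e' ⟶ c, hat' (op e') (T.obj.map r.op t) ≫ k = (ySF J).map h
  downward_closed := by
    rintro e' e'' r ⟨h, hh⟩ r'
    refine ⟨r' ≫ h, ?_⟩
    have : T.obj.map (r' ≫ r).op t = T.obj.map r'.op (T.obj.map r.op t) := by
      rw [op_comp, Functor.map_comp_apply]
    rw [this, hat'_map, Category.assoc, hh, ← Functor.map_comp]
    rfl

theorem repSieve_mem {T : Sheaf J (Type u)} {c : C} (k : T ⟶ yS J c) (e : Cᵒᵖ)
    (t : T.obj.obj e) : repSieve k e t ∈ J e.unop := by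
  obtain ⟨R, hR, h⟩ := yS_locally_representable (J := J) (c := c) (d := e.unop) (k.hom.app e t)
  refine J.superset_covering ?_ hR
  intro e' r hr
  obtain ⟨g, hg⟩ := h r hr
  refine ⟨g, ?_⟩
  rw [← hat'_hom_app]
  have e1 : k.hom.app (op e') (T.obj.map r.op t) = (yS J c).obj.map r.op (k.hom.app e t) :=
    NatTrans.naturality_apply k.hom r.op t
  rw [e1]
  have e2 : (yS J c).obj.map r.op (k.hom.app e t) = (yS J c).obj.map g.op (univ J c) := hg
  rw [e2]
  exact hat'_univ_map (c := op c) (d := op e') g.op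

variable (G : (Sheaf J (Type u))ᵒᵖ ⥤ Type w)

/-- Restriction of a functor on the topos to the site. -/
abbrev restr : Cᵒᵖ ⥤ Type w := (ySF J).op ⋙ G

/-- Local criterion for equality of sections of a separated presheaf on the topos. -/
theorem sep_ext (hG : Presieve.IsSeparated (Sheaf.canonicalTopology (Sheaf J (Type u))) G)
    {T : Sheaf J (Type u)} (a b : G.obj (op T))
    (S : Sieve T) (hS : LS S) (h : ∀ ⦃T' : Sheaf J (Type u)⦄ (k : T' ⟶ T), S.arrows k →
      G.map k.op a = G.map k.op b) : a = b :=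
  (hG S hS.mem_canonical).ext h

/-- The sieve of morphisms equalizing two sections. -/
def eqSieve {T : Sheaf J (Type u)} (a b : G.obj (op T)) : Sieve T where
  arrows T' k := G.map k.op a = G.map k.op b
  downward_closed := by
    intro T' T'' k hk k'
    change G.map (k' ≫ k).op a = G.map (k' ≫ k).op b
    rw [op_comp, Functor.map_comp_apply, Functor.map_comp_apply, hk]

theorem eq_of_LS_eqSieve (hG : Presieve.IsSeparated (Sheaf.canonicalTopology (Sheaf J (Type u))) G)
    {T : Sheaf J (Type u)} (a b : G.obj (op T)) (h : LS (eqSieve G a b)) : a = b :=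
  sep_ext G hG a b _ h (fun _ _ hk => hk)

variable {G}

section Theta

variable {X : Sheaf J (Type u)} {P : Cᵒᵖ ⥤ Type u} (π : P ⟶ X.obj)

/-- The comparison map `G X → Fam P G₀`. -/
def Theta (s : G.obj (op X)) : Fam P (restr G) where
  app c p := G.map (hat' c (π.app c p)).op s
  nat := by
    intro c d g p
    have e1 : π.app d (P.map g p) = X.obj.map g (π.app c p) := NatTrans.naturality_apply π g p
    rw [e1, hat'_map]
    change _ = G.map ((ySF J).map g.unop).op _
    rw [op_comp, Functor.map_comp_apply]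

/-- The generating family. -/
abbrev genX (P : Cᵒᵖ ⥤ Type u) (i : Σ c : Cᵒᵖ, P.obj c) : Sheaf J (Type u) := yS J i.1.unop

abbrev genπ (i : Σ c : Cᵒᵖ, P.obj c) : genX (J := J) P i ⟶ X := hat' i.1 (π.app i.1 i.2)

theorem gen_LS [Presheaf.IsLocallySurjective J π] :
    LS (Sieve.generate (Presieve.ofArrows (genX (J := J) P) (genπ π))) := by
  intro c x
  refine J.superset_covering ?_ (Presheaf.imageSieve_mem J π (U := c) x)
  rintro d g ⟨p, hp⟩
  change (Sieve.generate _).arrows (hat' (op d) (X.obj.map g.op x))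
  rw [← hp]
  exact Sieve.le_generate _ _ _ (Presieve.ofArrows.mk (⟨op d, p⟩ : Σ c : Cᵒᵖ, P.obj c))

theorem gen_compatible [Presheaf.IsLocallyInjective J π]
    (hG : Presieve.IsSeparated (Sheaf.canonicalTopology (Sheaf J (Type u))) G)
    (β : Fam P (restr G)) :
    Presieve.Arrows.Compatible G (genπ π) (fun i => β.app i.1 i.2) := by
  rintro ⟨c₁, p₁⟩ ⟨c₂, p₂⟩ T g₁ g₂ hcomm
  apply eq_of_LS_eqSieve G hG
  intro e t
  refine J.transitive (J.intersection_covering (repSieve_mem g₁ e t) (repSieve_mem g₂ e t)) _ ?_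
  rintro e' r ⟨⟨h₁, hh₁⟩, ⟨h₂, hh₂⟩⟩
  -- the two sections of `P` over `e'`
  have hπ : π.app (op e') (P.map h₁.op p₁) = π.app (op e') (P.map h₂.op p₂) := by
    apply hat'_injective
    have e1 : π.app (op e') (P.map h₁.op p₁) = X.obj.map h₁.op (π.app c₁ p₁) :=
      NatTrans.naturality_apply π h₁.op p₁
    have e2 : π.app (op e') (P.map h₂.op p₂) = X.obj.map h₂.op (π.app c₂ p₂) :=
      NatTrans.naturality_apply π h₂.op p₂
    rw [e1, e2, hat'_map, hat'_map]
    change (ySF J).map h₁ ≫ genπ π ⟨c₁, p₁⟩ = (ySF J).map h₂ ≫ genπ π ⟨c₂, p₂⟩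
    rw [← hh₁, ← hh₂, Category.assoc, Category.assoc, hcomm]
  refine J.superset_covering ?_ (Presheaf.equalizerSieve_mem J π _ _ hπ)
  intro e'' r' hr'
  change G.map (hat' (op e'') (T.obj.map (r' ≫ r).op t)).op (G.map g₁.op (β.app c₁ p₁)) =
    G.map (hat' (op e'') (T.obj.map (r' ≫ r).op t)).op (G.map g₂.op (β.app c₂ p₂))
  have e0 : T.obj.map (r' ≫ r).op t = T.obj.map r'.op (T.obj.map r.op t) := by
    rw [op_comp, Functor.map_comp_apply]
  have k₁ : hat' (op e'') (T.obj.map (r' ≫ r).op t) ≫ g₁ = (ySF J).map (r' ≫ h₁) := by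
    rw [e0, hat'_map, Category.assoc, hh₁, ← Functor.map_comp]; rfl
  have k₂ : hat' (op e'') (T.obj.map (r' ≫ r).op t) ≫ g₂ = (ySF J).map (r' ≫ h₂) := by
    rw [e0, hat'_map, Category.assoc, hh₂, ← Functor.map_comp]; rfl
  rw [← Functor.map_comp_apply, ← Functor.map_comp_apply, ← op_comp, ← op_comp,
    k₁, k₂]
  have n₁ := β.nat (r' ≫ h₁).op p₁
  have n₂ := β.nat (r' ≫ h₂).op p₂
  change G.map ((ySF J).map (r' ≫ h₁)).op _ = G.map ((ySF J).map (r' ≫ h₂)).op _ at *
  refine n₁.symm.trans (Eq.trans ?_ n₂)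
  have q : P.map (r' ≫ h₁).op p₁ = P.map (r' ≫ h₂).op p₂ := by
    rw [op_comp, op_comp, Functor.map_comp_apply, Functor.map_comp_apply]
    exact hr'
  rw [q]

/-- (GEN'): sections of a canonical sheaf over `X` are the same as natural families over any
locally bijective chart of `X`. -/
theorem Theta_bijective [Presheaf.IsLocallySurjective J π] [Presheaf.IsLocallyInjective J π]
    (hG : Presieve.IsSheaf (Sheaf.canonicalTopology (Sheaf J (Type u))) G) :
    Function.Bijective (Theta (G := G) π) := by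
  have h1 : Presieve.IsSheafFor G (Presieve.ofArrows (genX (J := J) P) (genπ π)) := by
    rw [Presieve.isSheafFor_iff_generate]
    exact hG _ (gen_LS π).mem_canonical
  rw [Presieve.isSheafFor_arrows_iff] at h1
  constructor
  · intro s s' h
    have hs := h1 (fun i => (Theta (G := G) π s).app i.1 i.2)
      (gen_compatible π hG.isSeparated _)
    refine hs.unique (fun i => rfl) (fun i => ?_)
    rw [h]
    rfl
  · intro β
    obtain ⟨s, hs, -⟩ := h1 (fun i => β.app i.1 i.2) (gen_compatible π hG.isSeparated β)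
    refine ⟨s, ?_⟩
    refine Fam.ext (funext fun c => funext fun p => ?_)
    exact hs ⟨c, p⟩

end Theta

end Groth.Agent.Helper6.Giraud
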