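import Mathlib
import Groth.Agent.Lib.Helper6.Giraud.Gen

set_option linter.unusedSectionVars false
set_option linter.unusedVariables false
set_option linter.unusedSimpArgs false
set_option autoImplicit false
set_option linter.style.haveILetI false
set_option maxHeartbeats 400000

noncomputable section

namespace Groth.Agent.Helper6.Giraud

open CategoryTheory Limits Opposite

universe w u

variable {C : Type u} [SmallCategory C] {J : GrothendieckTopology C}

/-- The property that sections of `G` can be computed on any locally bijective chart. -/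
def ThetaBij (G : (Sheaf J (Type u))ᵒᵖ ⥤ Type w) : Prop :=
  ∀ (X : Sheaf J (Type u)) (P : Cᵒᵖ ⥤ Type u) (π : P ⟶ X.obj)
    [Presheaf.IsLocallySurjective J π] [Presheaf.IsLocallyInjective J π],
    Function.Bijective (Theta (G := G) π)

theorem ThetaBij_of_isSheaf {G : (Sheaf J (Type u))ᵒᵖ ⥤ Type w}
    (hG : Presieve.IsSheaf (Sheaf.canonicalTopology (Sheaf J (Type u))) G) : ThetaBij G :=
  fun X P π _ _ => Theta_bijective π hG

variable {G : (Sheaf J (Type u))ᵒᵖ ⥤ Type w}

theorem Theta_id_naturality {X Y : Sheaf J (Type u)} (f : Y ⟶ X) (s : G.obj (op X)) :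
    Theta (G := G) (𝟙 Y.obj) (G.map f.op s) = (Theta (G := G) (𝟙 X.obj) s).comp f.hom := by
  refine Fam.ext (funext fun c => funext fun y => ?_)
  change G.map (hat' c y).op (G.map f.op s) = G.map (hat' c (f.hom.app c y)).op s
  rw [hat'_hom_app, op_comp, Functor.map_comp_apply]

/-- (A): `G` is isomorphic to `Hfun` of its restriction, up to a universe lift. -/
def ThetaBij.iso (h : ThetaBij G) : G ⋙ uliftFunctor.{u} ≅ Hfun J (restr G) :=
  NatIso.ofComponents
    (fun X => (Equiv.ulift.trans
      (Equiv.ofBijective _ (h X.unop X.unop.obj (𝟙 _)))).toIso)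
    (by
      intro X Y f
      ext ⟨s⟩
      exact Theta_id_naturality (G := G) f.unop s)

/-- The chart of `a(y c)` given by a sieve. -/
def sievePi (c : C) (R : Sieve c) : R.functor ⟶ (yS J c).obj :=
  R.functorInclusion ≫ toSheafify J (yoneda.obj c)

theorem sievePi_app {c : C} (R : Sieve c) (d : Cᵒᵖ) (g : R.functor.obj d) :
    (sievePi (J := J) c R).app d g = (yS J c).obj.map g.1.op (univ J c) := by
  have h3 := NatTrans.naturality_apply (toSheafify J (yoneda.obj c)) g.1.op (𝟙 c)
  simp only [univ]
  refine Eq.trans ?_ h3
  change (toSheafify J (yoneda.obj c)).app d g.1 = _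
  congr 1
  simp

theorem hat'_sievePi {c : C} (R : Sieve c) (d : Cᵒᵖ) (g : R.functor.obj d) :
    hat' d ((sievePi (J := J) c R).app d g) = (ySF J).map g.1 := by
  rw [sievePi_app]
  exact hat'_univ_map (c := op c) (d := d) g.1.op

theorem functorInclusion_locallySurjective {c : C} (R : Sieve c) (hR : R ∈ J c) :
    Presheaf.IsLocallySurjective J R.functorInclusion where
  imageSieve_mem {U} s := by
    refine J.superset_covering ?_ (J.pullback_stable s hR)
    intro e r hr
    exact ⟨⟨r ≫ s, hr⟩, rfl⟩

/-- (E): the restriction of `G` to the site is a sheaf. -/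
theorem ThetaBij.isSheaf_restr (h : ThetaBij G) : Presieve.IsSheaf J (restr G) := by
  intro c R hR
  haveI : Presheaf.IsLocallySurjective J R.functorInclusion :=
    functorInclusion_locallySurjective R hR
  haveI : Presheaf.IsLocallyInjective J R.functorInclusion :=
    Presheaf.isLocallyInjective_of_injective _ _ (fun X a b hab => Subtype.ext hab)
  haveI : Presheaf.IsLocallySurjective J (sievePi (J := J) c R) := by
    unfold sievePi; infer_instance
  haveI : Presheaf.IsLocallyInjective J (sievePi (J := J) c R) := by
    unfold sievePi; infer_instance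
  have hb := h (yS J c) R.functor (sievePi c R)
  have hTheta : ∀ (s : G.obj (op (yS J c))) (d : Cᵒᵖ) (g : R.functor.obj d),
      (Theta (G := G) (sievePi c R) s).app d g = (restr G).map g.1.op s := by
    intro s d g
    change G.map (hat' d ((sievePi (J := J) c R).app d g)).op s = _
    rw [hat'_sievePi]
    rfl
  intro x hx
  have hx' := hx.to_sieveCompatible
  let β : Fam R.functor (restr G) :=
    { app := fun d g => x g.1 g.2
      nat := by
        intro d d' k g
        exact hx' g.1 k.unop g.2 }
  obtain ⟨s, hs⟩ := hb.2 β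
  refine ⟨s, ?_, ?_⟩
  · intro d g hg
    rw [← hTheta s (op d) ⟨g, hg⟩, hs]
  · intro s' hs'
    apply hb.1
    rw [hs]
    refine Fam.ext (funext fun d => funext fun g => ?_)
    rw [hTheta]
    exact hs' g.1 g.2

end Groth.Agent.Helper6.Giraud
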