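import Mathlib
import Groth.Agent.Lib.Helper6.Giraud.GenCor

set_option linter.unusedSectionVars false
set_option linter.unusedVariables false
set_option linter.unusedSimpArgs false
set_option autoImplicit false
set_option linter.style.haveILetI false
set_option maxHeartbeats 400000

noncomputable section

namespace Groth.Agent.Helper6.Giraud

open CategoryTheory Limits Opposite

universe w u

variable {C : Type u} [SmallCategory C] {J : GrothendieckTopology C}

section Elements

variable {X : Sheaf J (Type u)} {P : Cᵒᵖ ⥤ Type u} (π : P ⟶ X.obj)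

/-- The diagram of sheafified representables indexed by the elements of `P`. -/
def elK (J : GrothendieckTopology C) (P : Cᵒᵖ ⥤ Type u) : P.Elements ⥤ (Sheaf J (Type u))ᵒᵖ :=
  CategoryOfElements.π P ⋙ (ySF J).op

/-- The cone over `elK` with vertex `X`. -/
def elCone : Cone (elK J P) where
  pt := op X
  π :=
    { app := fun e => (hat' e.1 (π.app e.1 e.2)).op
      naturality := by
        intro e e' f
        have e1 : π.app e'.1 e'.2 = X.obj.map f.1 (π.app e.1 e.2) :=
          (congrArg (π.app e'.1) f.2.symm).trans (NatTrans.naturality_apply π f.1 e.2)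
        change 𝟙 _ ≫ (hat' e'.1 (π.app e'.1 e'.2)).op =
          (hat' e.1 (π.app e.1 e.2)).op ≫ ((ySF J).map f.1.unop).op
        rw [Category.id_comp, e1, hat'_map, op_comp] }

/-- The family attached to a cone over `elK`. -/
def elFam (s : Cone (elK J P)) : Fam P s.pt.unop.obj where
  app c p := (s.π.app ⟨c, p⟩).unop.hom.app c (univ J c.unop)
  nat := by
    intro c d g p
    let f : P.elementsMk c p ⟶ P.elementsMk d (P.map g p) := ⟨g, rfl⟩
    have h2 : (s.π.app ⟨d, P.map g p⟩).unop = (ySF J).map g.unop ≫ (s.π.app ⟨c, p⟩).unop := by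
      have h1 := s.w f
      rw [← h1]
      rfl
    rw [h2]
    change (s.π.app ⟨c, p⟩).unop.hom.app d (((ySF J).map g.unop).hom.app d (univ J d.unop)) = _
    rw [univ_map (c := c.unop) (d := d.unop) g.unop]
    exact NatTrans.naturality_apply (s.π.app ⟨c, p⟩).unop.hom g (univ J c.unop)

/-- `X` is the colimit of the sheafified representables over any locally bijective chart. -/
def elCone_isLimit [Presheaf.IsLocallySurjective J π] [Presheaf.IsLocallyInjective J π] :
    IsLimit (elCone π) := by
  have hZ : ∀ Z : Sheaf J (Type u), Presieve.IsSheaf J Z.obj :=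
    fun Z => (isSheaf_iff_isSheaf_of_type _ _).1 Z.property
  have ex : ∀ s : Cone (elK J P), ∃ β : Fam X.obj s.pt.unop.obj, β.comp π = elFam s :=
    fun s => (Fam.comp_bijective J π (hZ s.pt.unop)).2 (elFam s)
  choose β hβ using ex
  refine
    { lift := fun s => ((homEquivFam X s.pt.unop).symm (β s)).op
      fac := ?_
      uniq := ?_ }
  · intro s e
    apply Quiver.Hom.unop_inj
    change hat' e.1 (π.app e.1 e.2) ≫ (homEquivFam X s.pt.unop).symm (β s) = (s.π.app e).unop
    apply hat_ext
    change (β s).app e.1 ((hat' e.1 (π.app e.1 e.2)).hom.app e.1 (univ J e.1.unop)) = _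
    rw [hat_app_univ (c := e.1.unop)]
    exact congrFun (congrFun (congrArg Fam.app (hβ s)) e.1) e.2
  · intro s m hm
    apply Quiver.Hom.unop_inj
    apply (homEquivFam X s.pt.unop).injective
    change _ = (homEquivFam X s.pt.unop) ((homEquivFam X s.pt.unop).symm (β s))
    rw [Equiv.apply_symm_apply]
    apply (Fam.comp_bijective J π (hZ s.pt.unop)).1
    change Fam.comp π _ = Fam.comp π _
    rw [hβ]
    refine Fam.ext (funext fun c => funext fun p => ?_)
    have h1 := congrArg Quiver.Hom.unop (hm ⟨c, p⟩)
    change hat' c (π.app c p) ≫ m.unop = (s.π.app ⟨c, p⟩).unop at h1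
    change m.unop.hom.app c (π.app c p) = (s.π.app ⟨c, p⟩).unop.hom.app c (univ J c.unop)
    rw [← h1]
    change _ = m.unop.hom.app c ((hat' c (π.app c p)).hom.app c (univ J c.unop))
    rw [hat_app_univ (c := c.unop)]

end Elements

/-- (GEN''): a functor preserving small limits computes sections on charts. -/
theorem ThetaBij_of_preservesLimits (G : (Sheaf J (Type u))ᵒᵖ ⥤ Type w)
    [PreservesLimitsOfSize.{u, u} G] : ThetaBij G := by
  intro X P π _ _
  have hl : IsLimit (G.mapCone (elCone π)) := isLimitOfPreserves G (elCone_isLimit π)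
  have h := (Types.isLimit_iff _).1 ⟨hl⟩
  constructor
  · intro s s' hss
    let σ : ∀ e : P.Elements, (elK J P ⋙ G).obj e := fun e => (Theta (G := G) π s).app e.1 e.2
    have hσ : σ ∈ (elK J P ⋙ G).sections := by
      intro e e' f
      have := (Theta (G := G) π s).nat f.1 e.2
      exact this.symm.trans (congrArg ((Theta (G := G) π s).app e'.1) f.2)
    refine (h σ hσ).unique (fun e => rfl) (fun e => ?_)
    change (Theta (G := G) π s').app e.1 e.2 = (Theta (G := G) π s).app e.1 e.2
    rw [hss]
  · intro β
    let σ : ∀ e : P.Elements, (elK J P ⋙ G).obj e := fun e => β.app e.1 e.2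
    have hσ : σ ∈ (elK J P ⋙ G).sections := by
      intro e e' f
      have := β.nat f.1 e.2
      exact this.symm.trans (congrArg (β.app e'.1) f.2)
    obtain ⟨s, hs, -⟩ := h σ hσ
    refine ⟨s, Fam.ext (funext fun c => funext fun p => ?_)⟩
    exact hs ⟨c, p⟩

end Groth.Agent.Helper6.Giraud
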