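import Mathlib
import Groth.Agent.Lib.Helper6.Giraud.PresLim

set_option linter.unusedSectionVars false
set_option linter.unusedVariables false
set_option linter.unusedSimpArgs false
set_option autoImplicit false
set_option linter.style.haveILetI false
set_option maxHeartbeats 400000

noncomputable section

namespace Groth.Agent.Helper6.Giraud

open CategoryTheory Limits Opposite

universe w u

variable {C : Type u} [SmallCategory C] {J : GrothendieckTopology C}

/-- (B0): natural families out of a colimit of presheaves. -/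
theorem Fam_colimit_existsUnique {I : Type u} [SmallCategory I] {D₀ : I ⥤ (Cᵒᵖ ⥤ Type u)}
    (E₀ : Cocone D₀) (hE₀ : IsColimit E₀) {G₀ : Cᵒᵖ ⥤ Type w}
    (s : ∀ i, Fam (D₀.obj i) G₀)
    (hs : ∀ {i j : I} (f : i ⟶ j), (s j).comp (D₀.map f) = s i) :
    ∃! β : Fam E₀.pt G₀, ∀ i, β.comp (E₀.ι.app i) = s i := by
  have hc : ∀ c : Cᵒᵖ, (Functor.coconeTypesEquiv _).symm
      (((evaluation Cᵒᵖ (Type u)).obj c).mapCocone E₀) |>.IsColimit := fun c =>
    (Types.isColimit_iff_coconeTypesIsColimit _).1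
      ⟨isColimitOfPreserves ((evaluation Cᵒᵖ (Type u)).obj c) hE₀⟩
  let c' : ∀ c : Cᵒᵖ, Functor.CoconeTypes.{w} (D₀ ⋙ (evaluation Cᵒᵖ (Type u)).obj c) := fun c =>
    { pt := G₀.obj c
      ι := fun i x => (s i).app c x
      ι_naturality := by
        intro i j f
        funext x
        exact congrFun (congrFun (congrArg Fam.app (hs f)) c) x }
  have hfac : ∀ (c : Cᵒᵖ) (i : I) (x : (D₀.obj i).obj c),
      (hc c).desc (c' c) ((E₀.ι.app i).app c x) = (s i).app c x := fun c i x =>
    (hc c).fac_apply (c' c) i x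
  have hsurj : ∀ (c : Cᵒᵖ) (y : E₀.pt.obj c), ∃ i x, (E₀.ι.app i).app c x = y := fun c y =>
    (hc c).ι_jointly_surjective y
  refine ⟨⟨fun c => (hc c).desc (c' c), ?_⟩, ?_, ?_⟩
  · intro c d g y
    obtain ⟨i, x, rfl⟩ := hsurj c y
    have e1 : E₀.pt.map g ((E₀.ι.app i).app c x) = (E₀.ι.app i).app d ((D₀.obj i).map g x) :=
      (NatTrans.naturality_apply (E₀.ι.app i) g x).symm
    rw [e1, hfac, hfac]
    exact (s i).nat g x
  · intro i
    refine Fam.ext (funext fun c => funext fun x => ?_)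
    exact hfac c i x
  · intro β' hβ'
    refine Fam.ext (funext fun c => funext fun y => ?_)
    obtain ⟨i, x, rfl⟩ := hsurj c y
    have := congrFun (congrFun (congrArg Fam.app (hβ' i)) c) x
    exact this.trans (hfac c i x).symm

/-- (B): `Hfun G₀` preserves small limits when `G₀` is a sheaf. -/
theorem Hfun_preservesLimits {G₀ : Cᵒᵖ ⥤ Type w} (hG : Presieve.IsSheaf J G₀) :
    PreservesLimitsOfSize.{u, u} (Hfun J G₀) := by
  constructor
  intro I _
  constructor
  intro K
  let D : Iᵒᵖ ⥤ Sheaf J (Type u) := K.leftOp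
  let E₀ : Cocone (D ⋙ sheafToPresheaf J (Type u)) :=
    colimit.cocone (D ⋙ sheafToPresheaf J (Type u))
  have hE₀ : IsColimit E₀ := colimit.isColimit _
  let cc : Cocone D := Sheaf.sheafifyCocone E₀
  have hcc : IsColimit cc := Sheaf.isColimitSheafifyCocone E₀ hE₀
  have hι : ∀ i : Iᵒᵖ, (cc.ι.app i).hom = E₀.ι.app i ≫ toSheafify J E₀.pt :=
    fun i => Sheaf.sheafifyCocone_ι_app_val E₀ i
  apply preservesLimit_of_preserves_limit_cone (isLimitConeOfCoconeLeftOp K hcc)
  apply Nonempty.some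
  rw [Types.isLimit_iff]
  intro s hs
  -- the compatible family on the presheaf diagram
  let s' : ∀ i : Iᵒᵖ, Fam ((D ⋙ sheafToPresheaf J (Type u)).obj i) G₀ := fun i => s i.unop
  have hs' : ∀ {i j : Iᵒᵖ} (f : i ⟶ j),
      (s' j).comp ((D ⋙ sheafToPresheaf J (Type u)).map f) = s' i := by
    intro i j f
    exact hs f.unop
  obtain ⟨β₀, hβ₀, hβ₀u⟩ := Fam_colimit_existsUnique E₀ hE₀ s' hs'
  have hbij := Fam.comp_bijective J (toSheafify J E₀.pt) hG
  obtain ⟨β, hβ⟩ := hbij.2 β₀
  have hβ' : β.comp (toSheafify J E₀.pt) = β₀ := hβ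
  have key : ∀ (γ : Fam cc.pt.obj G₀) (i : I),
      ((Hfun J G₀).mapCone (coneOfCoconeLeftOp cc)).π.app i γ =
        (γ.comp (toSheafify J E₀.pt)).comp (E₀.ι.app (op i)) := by
    intro γ i
    change γ.comp (cc.ι.app (op i)).hom = _
    rw [hι]
    rfl
  refine ⟨β, ?_, ?_⟩
  · intro i
    rw [key, hβ']
    exact hβ₀ (op i)
  · intro γ hγ
    let γ' : Fam cc.pt.obj G₀ := γ
    change γ' = β
    apply hbij.1
    change γ'.comp (toSheafify J E₀.pt) = β.comp (toSheafify J E₀.pt)
    rw [hβ']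
    apply hβ₀u
    intro i
    exact (key γ' i.unop).symm.trans (hγ i.unop)

end Groth.Agent.Helper6.Giraud
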