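import Mathlib
import Groth.Agent.Lib.Helper6.Giraud.HfunLim

set_option linter.unusedSectionVars false
set_option linter.unusedVariables false
set_option linter.unusedSimpArgs false
set_option autoImplicit false
set_option linter.style.haveILetI false
set_option maxHeartbeats 400000

noncomputable section

namespace Groth.Agent.Helper6.Giraud

open CategoryTheory Limits Opposite

universe w v u

variable {C : Type u} [SmallCategory C] {J : GrothendieckTopology C}

/-- `Hfun G₀` is a sheaf for the canonical topology when `G₀` is a sheaf. -/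
theorem Hfun_isSheaf {G₀ : Cᵒᵖ ⥤ Type w} (hG : Presieve.IsSheaf J G₀) :
    Presieve.IsSheaf (Sheaf.canonicalTopology (Sheaf J (Type u))) (Hfun J G₀) :=
  fun X S hS => Hfun_isSheafFor hG S (LS_of_mem_canonical hS)

theorem ThetaBij.isSheaf {G : (Sheaf J (Type u))ᵒᵖ ⥤ Type w} (h : ThetaBij G) :
    Presieve.IsSheaf (Sheaf.canonicalTopology (Sheaf J (Type u))) G := by
  have h1 := Hfun_isSheaf h.isSheaf_restr
  have h2 := Presieve.isSheaf_iso _ h.iso.symm h1
  exact (Presieve.isSheaf_comp_uliftFunctor_iff _).1 h2

theorem ThetaBij.preservesLimits {G : (Sheaf J (Type u))ᵒᵖ ⥤ Type w} (h : ThetaBij G) :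
    PreservesLimitsOfSize.{u, u} G := by
  haveI h1 := Hfun_preservesLimits h.isSheaf_restr
  haveI h2 : PreservesLimitsOfSize.{u, u} (G ⋙ uliftFunctor.{u}) :=
    preservesLimits_of_natIso h.iso.symm
  exact preservesLimits_of_reflects_of_preserves G uliftFunctor.{u}

/-- Type-valued version of the characterization of canonical sheaves on a sheaf topos. -/
theorem isSheaf_canonical_iff_preservesLimits_type (G : (Sheaf J (Type u))ᵒᵖ ⥤ Type w) :
    Presieve.IsSheaf (Sheaf.canonicalTopology (Sheaf J (Type u))) G ↔
      PreservesLimitsOfSize.{u, u} G :=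
  ⟨fun hG => (ThetaBij_of_isSheaf hG).preservesLimits,
    fun _ => (ThetaBij_of_preservesLimits G).isSheaf⟩

/-- General version. -/
theorem isSheaf_canonical_iff_preservesLimits {E' : Type v} [Category.{w} E']
    (F : (Sheaf J (Type u))ᵒᵖ ⥤ E') :
    Presheaf.IsSheaf (Sheaf.canonicalTopology (Sheaf J (Type u))) F ↔
      PreservesLimitsOfSize.{u, u} F := by
  constructor
  · intro hF
    have h : ∀ W : E', PreservesLimitsOfSize.{u, u} (F ⋙ coyoneda.obj (op W)) :=
      fun W => (isSheaf_canonical_iff_preservesLimits_type _).1 (hF W)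
    constructor
    intro I _
    constructor
    intro K
    constructor
    intro c hc
    refine ⟨coyonedaJointlyReflectsLimits _ _ (fun W => ?_)⟩
    haveI := h W.unop
    exact isLimitOfPreserves (F ⋙ coyoneda.obj W) hc
  · intro hF W
    exact (isSheaf_canonical_iff_preservesLimits_type _).2 inferInstance

end Groth.Agent.Helper6.Giraud
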