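import Mathlib
import Groth.Prelude.Def_SGA4a
import Groth.Agent.Lib.Helper6.Giraud.ClosedCompl

set_option linter.unusedSectionVars false
set_option linter.unusedVariables false
set_option linter.unusedSimpArgs false
set_option autoImplicit false
set_option linter.style.haveILetI false
set_option maxHeartbeats 400000

noncomputable section

namespace Groth.Agent.Helper6.Giraud

open CategoryTheory Limits

universe v u

section abstract

variable {E : Type v} [Category.{u} E] [HasTerminal E] [HasBinaryProducts E]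
variable [HasPullbacks E] [HasPushouts E] [Adhesive E] (U : E) (hU : Mono (terminal.from U))

theorem isIso_of_star_of_L₀ {X Y : E} (m : X ⟶ Y) (h1 : IsIso (prod.map (𝟙 U) m))
    (h2 : IsIso ((L₀ U hU).map m)) : IsIso m := by
  haveI := mono_snd U hU Y
  let Pm : PP U X ⟶ PP U Y := ((L₀ U hU).map m).hom
  have hPm : IsIso Pm := inferInstanceAs (IsIso ((L₀ U hU).map m).hom)
  have e1 : pushout.inl _ _ ≫ Pm = pushout.inl _ _ :=
    closed_unique U (PP_closed U hU Y) (𝟙 U) _ _
  have e2 : pushout.inr _ _ ≫ Pm = m ≫ pushout.inr _ _ := inr_L₀_map U hU m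
  have HY : IsPushout (prod.fst : U ⨯ Y ⟶ U) (prod.snd : U ⨯ Y ⟶ Y)
      (pushout.inl _ _) (pushout.inr _ _) := IsPushout.of_hasPushout _ _
  have HX : IsPushout (prod.fst : U ⨯ X ⟶ U) (prod.snd : U ⨯ X ⟶ X)
      (pushout.inl _ _) (pushout.inr _ _) := IsPushout.of_hasPushout _ _
  have vk := Adhesive.van_kampen' HY
  have key := (vk (prod.fst : U ⨯ X ⟶ U) (prod.snd : U ⨯ X ⟶ X) (pushout.inl _ _)
    (pushout.inr _ _) (prod.map (𝟙 U) m) (𝟙 U) m Pm
    (IsPullback.of_vert_isIso ⟨by simp⟩) (isPullback_prod_snd U m).flip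
    ⟨by rw [e1, Category.id_comp]⟩ ⟨e2⟩ HX.toCommSq).mp HX
  exact key.2.isIso_snd_of_isIso

variable (L : E ⥤ (SGA4.closedCompl U).FullSubcategory) (adj : L ⊣ (SGA4.closedCompl U).ι)

include adj hU in
theorem conservative_abstract {X Y : E} (m : X ⟶ Y) :
    IsIso m ↔ IsIso ((Over.star U).map m) ∧ IsIso (L.map m) := by
  constructor
  · intro h
    exact ⟨inferInstance, inferInstance⟩
  · rintro ⟨h1, h2⟩
    have h1' : IsIso (prod.map (𝟙 U) m) := by
      have := (Over.forget U).map_isIso ((Over.star U).map m)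
      simp only [Over.forget_map, Over.star_map_left] at this
      exact this
    have e : L ≅ L₀ U hU := adj.leftAdjointUniq (adj₀ U hU)
    have h2' : IsIso ((L₀ U hU).map m) := (NatIso.isIso_map_iff e m).mp h2
    exact isIso_of_star_of_L₀ U hU m h1' h2'

end abstract

section sheaf

variable {C : Type u} [SmallCategory C] (J : GrothendieckTopology C)

theorem sheaf_hasPushouts : HasPushouts (Sheaf J (Type u)) := Sheaf.instHasColimitsOfShape

theorem sheaf_adhesive : Adhesive (Sheaf J (Type u)) := by
  haveI := sheaf_hasPushouts J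
  exact adhesive_of_reflective (sheafificationAdjunction J (Type u))

end sheaf

end Groth.Agent.Helper6.Giraud
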