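import Mathlib
import Groth.Prelude.Def_SGA4a
import Groth.Agent.Lib.Helper6.Giraud.ClosedSections
import Groth.Agent.Lib.Helper6.Giraud.Conserv

set_option linter.unusedSectionVars false
set_option linter.unusedVariables false
set_option linter.unusedSimpArgs false
set_option autoImplicit false
set_option linter.style.haveILetI false
set_option maxHeartbeats 400000

noncomputable section

namespace Groth.Agent.Helper6.Giraud

open CategoryTheory Limits Opposite

universe u

variable {C : Type u} [SmallCategory C] (J : GrothendieckTopology C)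
variable (U : Sheaf J (Type u)) (hU : Mono (terminal.from U))

/-- The functor `X ↦ a(Q X)`. -/
def Rfun : Sheaf J (Type u) ⥤ Sheaf J (Type u) :=
  sheafToPresheaf J (Type u) ⋙ Q U.obj ⋙ presheafToSheaf J (Type u)

instance : PreservesFiniteLimits (Rfun J U) := by
  unfold Rfun
  infer_instance

theorem Rfun_sections_subsingleton (X : Sheaf J (Type u)) (c : Cᵒᵖ)
    (h : Nonempty (U.obj.obj c)) : Subsingleton (((Rfun J U).obj X).obj.obj c) := by
  obtain ⟨w⟩ := h
  refine sheafify_subsingleton J ((Q U.obj).obj X.obj) c.unop (fun d f => ?_)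
  exact Q_subsingleton U.obj X.obj (op d) ⟨U.obj.map f.op w⟩

/-- The canonical map `U ⟶ Q X` of presheaves. -/
def UtoQ (X : Sheaf J (Type u)) : U.obj ⟶ (Q U.obj).obj X.obj where
  app c := ↾(fun w => ((↾(fun a => ((AA_isEmpty U.obj a).false w).elim) :
    AA U.obj c ⟶ X.obj.obj c) : (Qobj U.obj X.obj).obj c))
  naturality := by
    intro c d f
    ext w
    apply Q_ext
    intro a
    exact ((AA_isEmpty U.obj a).false (U.obj.map f w)).elim

/-- The canonical map `U ⟶ R X`. -/
def UtoR (X : Sheaf J (Type u)) : U ⟶ (Rfun J U).obj X :=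
  ObjectProperty.homMk (UtoQ J U X ≫ toSheafify J _)

theorem Rfun_closed (X : Sheaf J (Type u)) : SGA4.closedCompl U ((Rfun J U).obj X) := by
  refine closed_of_snd_eq U (UtoR J U X) ?_
  apply sheaf_hom_ext_of_subsingleton
  intro c ⟨w⟩
  exact Rfun_sections_subsingleton J U X c ⟨(prod.fst : U ⨯ (Rfun J U).obj X ⟶ U).hom.app c w⟩

/-- The unit `X ⟶ R X`. -/
def ηR : 𝟭 (Sheaf J (Type u)) ⟶ Rfun J U where
  app X := ObjectProperty.homMk ((ηQ U.obj).app X.obj ≫ toSheafify J _)
  naturality := by
    intro X Y m
    apply ObjectProperty.hom_ext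
    change m.hom ≫ (ηQ U.obj).app Y.obj ≫ toSheafify J _ =
      ((ηQ U.obj).app X.obj ≫ toSheafify J _) ≫ sheafifyMap J ((Q U.obj).map m.hom)
    have h := (ηQ U.obj).naturality m.hom
    simp only [Functor.id_map] at h
    rw [Category.assoc, ← toSheafify_naturality, ← Category.assoc, ← Category.assoc, h]

/-- Presheaf-level extension lemma: maps `F ⟶ Zp` extend uniquely along `F ⟶ Q F` when `Zp` has
singleton sections wherever `U` has sections. -/
theorem Q_precomp_bijective (F Zp : Cᵒᵖ ⥤ Type u)
    (h1 : ∀ c, Nonempty (U.obj.obj c) → Subsingleton (Zp.obj c))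
    (h2 : ∀ c, Nonempty (U.obj.obj c) → Nonempty (Zp.obj c)) :
    Function.Bijective (fun ψ : (Q U.obj).obj F ⟶ Zp => (ηQ U.obj).app F ≫ ψ) := by
  classical
  constructor
  · intro ψ ψ' h
    ext c q
    by_cases hc : Nonempty (U.obj.obj c)
    · haveI := h1 c hc
      exact Subsingleton.elim _ _
    · have a : AA U.obj c := AAmk U.obj (not_nonempty_iff.mp hc)
      rw [Q_eq_const U.obj F c a q]
      have := congrArg (fun k => k.app c (Qapp U.obj q a)) h
      exact this
  · intro φ
    have hdef : ∀ c, ¬ IsEmpty (U.obj.obj c) → Nonempty (Zp.obj c) := fun c hc =>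
      h2 c (not_isEmpty_iff.mp hc)
    let ψapp : ∀ c, (Qobj U.obj F).obj c → Zp.obj c := fun c q =>
      if hc : IsEmpty (U.obj.obj c) then φ.app c (Qapp U.obj q (AAmk U.obj hc))
      else (hdef c hc).some
    refine ⟨{ app := fun c => ↾(ψapp c), naturality := ?_ }, ?_⟩
    · intro c d f
      ext q
      by_cases hd : Nonempty (U.obj.obj d)
      · haveI := h1 d hd
        exact Subsingleton.elim _ _
      · have hd' : IsEmpty (U.obj.obj d) := not_nonempty_iff.mp hd
        have hc' : IsEmpty (U.obj.obj c) := ⟨fun w => hd'.false (U.obj.map f w)⟩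
        change ψapp d ((Qobj U.obj F).map f q) = Zp.map f (ψapp c q)
        simp only [ψapp, dif_pos hd', dif_pos hc']
        have e1 : Qapp U.obj ((Qobj U.obj F).map f (q : (Qobj U.obj F).obj c)) (AAmk U.obj hd') =
            F.map f (Qapp U.obj (q : (Qobj U.obj F).obj c) (AAmk U.obj hc')) := by
          rw [show AAmk U.obj hc' = AAmap U.obj f (AAmk U.obj hd') from Subsingleton.elim _ _]
          rfl
        exact (congrArg (fun z => φ.app d z) e1).trans (NatTrans.naturality_apply φ f _)
    · ext c x
      by_cases hc : Nonempty (U.obj.obj c)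
      · haveI := h1 c hc
        exact Subsingleton.elim _ _
      · have hc' : IsEmpty (U.obj.obj c) := not_nonempty_iff.mp hc
        change ψapp c (Qconst U.obj x) = φ.app c x
        simp only [ψapp, dif_pos hc']
        rfl

theorem ηR_precomp_bijective (X : Sheaf J (Type u)) {Z : Sheaf J (Type u)}
    (hZ : SGA4.closedCompl U Z) :
    Function.Bijective (fun g : (Rfun J U).obj X ⟶ Z => (ηR J U).app X ≫ g) := by
  have hb := Q_precomp_bijective J U X.obj Z.obj
    (fun c h => closed_sections_subsingleton J U hZ c h)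
    (fun c h => closed_sections_nonempty J U hZ c h)
  constructor
  · intro g g' h
    apply ObjectProperty.hom_ext
    apply sheafify_hom_ext _ _ _ Z.property
    apply hb.1
    have h' : ((ηQ U.obj).app X.obj ≫ toSheafify J _) ≫ g.hom =
        ((ηQ U.obj).app X.obj ≫ toSheafify J _) ≫ g'.hom := congrArg (fun k => k.hom) h
    rw [Category.assoc, Category.assoc] at h'
    exact h'
  · intro φ
    obtain ⟨ψ, hψ⟩ := hb.2 φ.hom
    refine ⟨ObjectProperty.homMk (sheafifyLift J ψ Z.property), ?_⟩
    apply ObjectProperty.hom_ext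
    change ((ηQ U.obj).app X.obj ≫ toSheafify J _) ≫ sheafifyLift J ψ Z.property = φ.hom
    rw [Category.assoc, toSheafify_sheafifyLift]
    exact hψ

/-- The reflector, as a lift of `Rfun`. -/
def L₁ : Sheaf J (Type u) ⥤ (SGA4.closedCompl U).FullSubcategory :=
  (SGA4.closedCompl U).lift (Rfun J U) (Rfun_closed J U)

/-- The hom-set bijection for `L₁`. -/
def L₁equiv (X : Sheaf J (Type u)) (Z : (SGA4.closedCompl U).FullSubcategory) :
    ((L₁ J U).obj X ⟶ Z) ≃ (X ⟶ (SGA4.closedCompl U).ι.obj Z) :=
  (show ((L₁ J U).obj X ⟶ Z) ≃ ((Rfun J U).obj X ⟶ Z.obj) from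
    { toFun := fun g => g.hom
      invFun := fun g => ObjectProperty.homMk g
      left_inv := fun g => rfl
      right_inv := fun g => rfl }).trans
    (Equiv.ofBijective _ (ηR_precomp_bijective J U X Z.property))

theorem L₁equiv_apply (X : Sheaf J (Type u)) (Z : (SGA4.closedCompl U).FullSubcategory)
    (g : (L₁ J U).obj X ⟶ Z) : L₁equiv J U X Z g = (ηR J U).app X ≫ g.hom := rfl

/-- `L₁` is left adjoint to the inclusion. -/
def adj₁ : L₁ J U ⊣ (SGA4.closedCompl U).ι :=
  Adjunction.mkOfHomEquiv
    { homEquiv := L₁equiv J U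
      homEquiv_naturality_left_symm := by
        intro X' X Z f g
        apply (L₁equiv J U X' Z).injective
        rw [Equiv.apply_symm_apply, L₁equiv_apply]
        change f ≫ g = (ηR J U).app X' ≫ (Rfun J U).map f ≫ ((L₁equiv J U X Z).symm g).hom
        have h1 := (ηR J U).naturality f
        have h2 : (ηR J U).app X ≫ ((L₁equiv J U X Z).symm g).hom = g := by
          rw [← L₁equiv_apply, Equiv.apply_symm_apply]
        simp only [Functor.id_map] at h1
        rw [← Category.assoc, ← h1, Category.assoc, h2]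
      homEquiv_naturality_right := by
        intro X Z Z' g k
        rw [L₁equiv_apply, L₁equiv_apply]
        exact (Category.assoc _ _ _).symm }

instance : PreservesFiniteLimits (L₁ J U) := by
  have : PreservesFiniteLimits (L₁ J U ⋙ (SGA4.closedCompl U).ι) :=
    inferInstanceAs (PreservesFiniteLimits (Rfun J U))
  exact preservesFiniteLimits_of_reflects_of_preserves (L₁ J U) (SGA4.closedCompl U).ι

include hU in
/-- The pushout reflector preserves finite limits. -/
theorem L₀_preservesFiniteLimits :
    haveI := sheaf_hasPushouts J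
    haveI := sheaf_adhesive J
    PreservesFiniteLimits (L₀ U hU) := by
  haveI := sheaf_hasPushouts J
  haveI := sheaf_adhesive J
  have e : L₁ J U ≅ L₀ U hU := (adj₁ J U).leftAdjointUniq (adj₀ U hU)
  exact preservesFiniteLimits_of_natIso e

end Groth.Agent.Helper6.Giraud
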