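import Mathlib
import Groth.Prelude.Def_SGA4a

set_option linter.unusedSectionVars false
set_option linter.unusedVariables false
set_option linter.unusedSimpArgs false
set_option autoImplicit false
set_option linter.style.haveILetI false
set_option maxHeartbeats 400000

noncomputable section

namespace Groth.Agent.Helper6.Giraud

open CategoryTheory Limits

universe v u

variable {E : Type v} [Category.{u} E] [HasPullbacks E]

/-- An equivalence relation in the sense of generalized points is an internal equivalence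
relation. -/
theorem equivalenceRelation_of_isEquivRel {R A : E} (p₁ p₂ : R ⟶ A)
    (h : SGA4.IsEquivRel p₁ p₂) : Nonempty (EquivalenceRelation p₁ p₂) := by
  obtain ⟨r, hr1, hr2⟩ := (h A).2.refl (𝟙 A)
  obtain ⟨s, hs1, hs2⟩ := (h R).2.symm ⟨𝟙 R, Category.id_comp _, Category.id_comp _⟩
  obtain ⟨t, ht1, ht2⟩ := (h (pullback p₂ p₁)).2.trans
    (⟨pullback.fst p₂ p₁, rfl, rfl⟩ : ∃ f : pullback p₂ p₁ ⟶ R,
      f ≫ p₁ = pullback.fst p₂ p₁ ≫ p₁ ∧ f ≫ p₂ = pullback.fst p₂ p₁ ≫ p₂)
    (⟨pullback.snd p₂ p₁, pullback.condition.symm, rfl⟩ : ∃ f : pullback p₂ p₁ ⟶ R,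
      f ≫ p₁ = pullback.fst p₂ p₁ ≫ p₂ ∧ f ≫ p₂ = pullback.snd p₂ p₁ ≫ p₂)
  exact ⟨{
    right_cancellation := fun Y f g h₁ h₂ => (h Y).1 (Prod.ext h₁ h₂)
    r := r
    reflexivity₁ := hr1
    reflexivity₂ := hr2
    s := s
    symmetry₁ := hs1
    symmetry₂ := hs2
    c := pullback.cone p₂ p₁
    isLimit := pullback.isLimit p₂ p₁
    t := t
    transitivity₁ := ht1
    transitivity₂ := ht2 }⟩

/-- Translation of Mathlib's universally effective equivalence relations to the frozen
`SGA4.IsEffectiveUniversalEquivRel`. -/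
theorem isEffectiveUniversalEquivRel_of {R A : E} (p₁ p₂ : R ⟶ A)
    (h : IsUniversallyEffectiveEquivalenceRelation p₁ p₂) :
    SGA4.IsEffectiveUniversalEquivRel p₁ p₂ := by
  obtain ⟨⟨e⟩⟩ := h
  refine ⟨e.B, e.π, e.isKernelPair, e.isPushout, fun B' g => ?_⟩
  exact e.universally_effectiveEpi_π _ _ _ (IsPullback.of_hasPullback e.π g).flip

end Groth.Agent.Helper6.Giraud
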