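import Mathlib
import Groth.Prelude.Def_SGA4a

set_option linter.unusedSectionVars false
set_option linter.unusedVariables false
set_option linter.unusedSimpArgs false
set_option autoImplicit false
set_option linter.style.haveILetI false
set_option maxHeartbeats 400000

noncomputable section

namespace Groth.Agent.Helper6.Gir

open CategoryTheory Limits Opposite

universe w v u

variable {E : Type v} [Category.{u} E]

/-- Pullback of a universal colimit cofan is a colimit cofan. -/
theorem universal_cofan_pullback {ι : Type w} {X : ι → E} (c : Cofan X) (hc : IsUniversalColimit c)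
    {Y : E} (g : Y ⟶ c.pt) (Y' : ι → E) (a : ∀ j, Y' j ⟶ Y) (b : ∀ j, Y' j ⟶ X j)
    (h : ∀ j, IsPullback (a j) (b j) g (c.inj j)) : Nonempty (IsColimit (Cofan.mk Y a)) := by
  refine hc (Cofan.mk Y a) (Discrete.natTrans fun j => b j.as) g ?_
    (NatTrans.equifibered_of_discrete _) ?_
  · ext ⟨j⟩
    have := (h j).w.symm
    simp only [NatTrans.comp_app, Discrete.natTrans_app, Functor.const_obj_obj, Cofan.mk_pt,
      Cofan.mk_ι_app, Functor.const_map_app]
    exact this
  · rintro ⟨j⟩
    exact h j

/-- A colimit cofan generates an effective-epimorphic sieve. -/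
theorem isSheafFor_yoneda_ofArrows_of_isColimit {ι : Type w} {Y' : ι → E} {Y : E}
    (a : ∀ j, Y' j ⟶ Y) (h : IsColimit (Cofan.mk Y a)) (Z : E) :
    Presieve.IsSheafFor (yoneda.obj Z) (Presieve.ofArrows Y' a) := by
  rw [Presieve.isSheafFor_arrows_iff]
  intro x hx
  refine ⟨Cofan.IsColimit.desc h x, ?_, ?_⟩
  · intro j
    exact Cofan.IsColimit.fac h x j
  · intro t ht
    refine Cofan.IsColimit.hom_ext h _ _ (fun j => ?_)
    rw [Cofan.IsColimit.fac h x j]
    exact ht j

/-- (F1): the injections of a universal coproduct generate a canonical covering sieve. -/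
theorem ofArrows_inj_mem_canonical [HasPullbacks E] {ι : Type w} {X : ι → E} (c : Cofan X)
    (hc : IsUniversalColimit c) :
    Sieve.generate (Presieve.ofArrows X c.inj) ∈ Sheaf.canonicalTopology E c.pt := by
  apply Sheaf.mem_finestTopology_of_forall_isSheafFor
  rintro _ ⟨Z, rfl⟩ Y g
  rw [← Sieve.pullbackArrows_comm, ← Presieve.ofArrows_pullback, ← Presieve.isSheafFor_iff_generate]
  obtain ⟨h⟩ := universal_cofan_pullback c hc g (fun j => pullback (c.inj j) g)
    (fun j => pullback.snd _ _) (fun j => pullback.fst _ _)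
    (fun j => (IsPullback.of_hasPullback (c.inj j) g).flip)
  exact isSheafFor_yoneda_ofArrows_of_isColimit _ h Z

/-- (F2): a universally effective epimorphism generates a canonical covering sieve. -/
theorem generate_singleton_mem_canonical [HasPullbacks E] {A B : E} (π : A ⟶ B)
    (h : ∀ (B' : E) (g : B' ⟶ B), EffectiveEpi (pullback.snd π g)) :
    Sieve.generate (Presieve.singleton π) ∈ Sheaf.canonicalTopology E B := by
  apply Sheaf.mem_finestTopology_of_forall_isSheafFor
  rintro _ ⟨Z, rfl⟩ Y g
  rw [← Sieve.pullbackArrows_comm, Presieve.pullback_singleton]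
  have := (Sieve.effectiveEpimorphic_singleton _).2 (h Y g)
  exact (Sieve.EffectiveEpimorphic.iff_forall_isSheafFor_yoneda _).1 this Z

section Initial

/-- (F5a): strictness of the initial object obtained from a universal empty coproduct. -/
theorem isInitial_of_hom_to_universal_empty {c : Cofan (fun e : PEmpty.{w + 1} => (e.elim : E))}
    (hc : IsUniversalColimit c) {Y : E} (g : Y ⟶ c.pt) : Nonempty (IsInitial Y) := by
  obtain ⟨h⟩ := universal_cofan_pullback c hc g (fun e => e.elim) (fun e => e.elim)
    (fun e => e.elim) (fun e => e.elim)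
  refine ⟨IsInitial.ofUniqueHom (fun Z => Cofan.IsColimit.desc h (fun e => e.elim)) ?_⟩
  intro Z m
  exact Cofan.IsColimit.hom_ext h _ _ (fun e => e.elim)

/-- The empty sieve covers an object all of whose generalized elements are initial. -/
theorem bot_mem_canonical {T : E} (hT : ∀ (Y : E) (g : Y ⟶ T), Nonempty (IsInitial Y)) :
    (⊥ : Sieve T) ∈ Sheaf.canonicalTopology E T := by
  apply Sheaf.mem_finestTopology_of_forall_isSheafFor
  rintro _ ⟨Z, rfl⟩ Y g
  obtain ⟨hY⟩ := hT Y g
  intro x hx
  refine ⟨hY.to Z, ?_, ?_⟩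
  · intro W f hf
    exact hf.elim
  · intro t _
    exact hY.hom_ext _ _

theorem subsingleton_of_isSheaf_of_bot_mem {F : Eᵒᵖ ⥤ Type w}
    (hF : Presieve.IsSheaf (Sheaf.canonicalTopology E) F) {T : E}
    (hT : (⊥ : Sieve T) ∈ Sheaf.canonicalTopology E T) : Subsingleton (F.obj (op T)) := by
  constructor
  intro a b
  refine (hF.isSeparated _ hT).ext ?_
  intro W f hf
  exact hf.elim

end Initial

end Groth.Agent.Helper6.Gir
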