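import Mathlib
import Groth.Prelude.Def_SGA4a
import Groth.Agent.Lib.Helper6.Giraud.GirBasic

set_option linter.unusedSectionVars false
set_option linter.unusedVariables false
set_option linter.unusedSimpArgs false
set_option autoImplicit false
set_option linter.style.haveILetI false
set_option maxHeartbeats 400000

noncomputable section

namespace Groth.Agent.Helper6.Gir

open CategoryTheory Limits Opposite

universe v u

variable {E : Type v} [Category.{u} E] [HasFiniteLimits E]

/-- A criterion for being an equivalence relation on generalized points. -/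
theorem isEquivRel_of_iff {R A : E} (p₁ p₂ : R ⟶ A)
    (hinj : ∀ (T : E) (k k' : T ⟶ R), k ≫ p₁ = k' ≫ p₁ → k ≫ p₂ = k' ≫ p₂ → k = k')
    (ρ : ∀ T : E, (T ⟶ A) → (T ⟶ A) → Prop) (hρ : ∀ T, Equivalence (ρ T))
    (h : ∀ (T : E) (a b : T ⟶ A), (∃ k : T ⟶ R, k ≫ p₁ = a ∧ k ≫ p₂ = b) ↔ ρ T a b) :
    SGA4.IsEquivRel p₁ p₂ := by
  intro T
  refine ⟨?_, ?_⟩
  · intro k k' hk
    have h1 := congrArg Prod.fst hk
    have h2 := congrArg Prod.snd hk
    exact hinj T k k' h1 h2
  · have : (fun a b : T ⟶ A => ∃ k : T ⟶ R, k ≫ p₁ = a ∧ k ≫ p₂ = b) = ρ T := by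
      funext a b
      exact propext (h T a b)
    rw [this]
    exact hρ T

/-- Kernel pairs are equivalence relations. -/
theorem kernelPair_isEquivRel {A B : E} (f : A ⟶ B) :
    SGA4.IsEquivRel (pullback.fst f f) (pullback.snd f f) := by
  refine isEquivRel_of_iff _ _ ?_ (fun T a b => a ≫ f = b ≫ f) ?_ ?_
  · intro T k k' h1 h2
    exact pullback.hom_ext h1 h2
  · intro T
    exact ⟨fun _ => rfl, fun h => h.symm, fun h h' => h.trans h'⟩
  · intro T a b
    constructor
    · rintro ⟨k, rfl, rfl⟩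
      rw [Category.assoc, Category.assoc, pullback.condition]
    · intro hab
      exact ⟨pullback.lift a b hab, pullback.lift_fst _ _ _, pullback.lift_snd _ _ _⟩

variable (hc : ∀ (R A : E) (p₁ p₂ : R ⟶ A), SGA4.IsEquivRel p₁ p₂ →
  SGA4.IsEffectiveUniversalEquivRel p₁ p₂)

include hc in
/-- (F3): image factorization. -/
theorem exists_image {A B : E} (f : A ⟶ B) :
    ∃ (I : E) (e : A ⟶ I) (m : I ⟶ B), e ≫ m = f ∧ Mono m ∧
      (∀ (B' : E) (g : B' ⟶ I), EffectiveEpi (pullback.snd e g)) := by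
  obtain ⟨I, e, hpb, hpo, heff⟩ := hc _ _ _ _ (kernelPair_isEquivRel f)
  let m : I ⟶ B := hpo.desc f f pullback.condition
  have hm : e ≫ m = f := hpo.inl_desc _ _ _
  refine ⟨I, e, m, hm, ⟨?_⟩, heff⟩
  intro T a b hab
  -- lift `a` and `b` locally to `A`
  haveI h1 := heff T a
  haveI h2 := heff (pullback e a) (pullback.snd e a ≫ b)
  let q : pullback e (pullback.snd e a ≫ b) ⟶ T := pullback.snd e (pullback.snd e a ≫ b) ≫
    pullback.snd e a
  haveI : Epi q := epi_comp _ _
  let a' : pullback e (pullback.snd e a ≫ b) ⟶ A :=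
    pullback.snd e (pullback.snd e a ≫ b) ≫ pullback.fst e a
  let b' : pullback e (pullback.snd e a ≫ b) ⟶ A := pullback.fst e (pullback.snd e a ≫ b)
  have ha' : a' ≫ e = q ≫ a := by
    simp only [a', q, Category.assoc, pullback.condition]
  have hb' : b' ≫ e = q ≫ b := by
    simp only [b', q, Category.assoc, pullback.condition]
  obtain ⟨Q, q, hq, a', b', ha', hb'⟩ : ∃ (Q : E) (q : Q ⟶ T) (_ : Epi q) (a' b' : Q ⟶ A),
      a' ≫ e = q ≫ a ∧ b' ≫ e = q ≫ b := ⟨_, q, inferInstance, a', b', ha', hb'⟩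
  have hf : a' ≫ f = b' ≫ f := by
    calc a' ≫ f = (a' ≫ e) ≫ m := by rw [Category.assoc, hm]
      _ = (q ≫ a) ≫ m := by rw [ha']
      _ = (q ≫ b) ≫ m := by rw [Category.assoc, hab, ← Category.assoc]
      _ = (b' ≫ e) ≫ m := by rw [hb']
      _ = b' ≫ f := by rw [Category.assoc, hm]
  have : a' ≫ e = b' ≫ e := by
    have e1 : pullback.lift a' b' hf ≫ pullback.fst f f = a' := pullback.lift_fst _ _ _
    have e2 : pullback.lift a' b' hf ≫ pullback.snd f f = b' := pullback.lift_snd _ _ _
    calc a' ≫ e = (pullback.lift a' b' hf ≫ pullback.fst f f) ≫ e := by rw [e1]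
      _ = (pullback.lift a' b' hf ≫ pullback.snd f f) ≫ e := by
          rw [Category.assoc, Category.assoc, hpb.w]
      _ = b' ≫ e := by rw [e2]
  rw [← cancel_epi q, ← ha', ← hb', this]

/-- (F4): a monomorphism through which all generators factor is an isomorphism. -/
theorem isIso_of_mono_of_factors {P : ObjectProperty E} (hP : P.IsDetecting) {I X : E} (m : I ⟶ X)
    [Mono m] (h : ∀ (G : E), P G → ∀ x : G ⟶ X, ∃ x' : G ⟶ I, x' ≫ m = x) : IsIso m := by
  apply hP
  intro G hG x
  obtain ⟨x', hx'⟩ := h G hG x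
  refine ⟨x', hx', ?_⟩
  intro y hy
  rw [← cancel_mono m, hy, hx']

/-- Transport of a covering sieve along an isomorphism. -/
theorem mem_canonical_of_pullback_iso {I X : E} (m : I ⟶ X) [IsIso m] (S : Sieve X)
    (h : S.pullback m ∈ Sheaf.canonicalTopology E I) : S ∈ Sheaf.canonicalTopology E X := by
  have := (Sheaf.canonicalTopology E).pullback_stable (inv m) h
  rwa [← Sieve.pullback_comp, IsIso.inv_hom_id, Sieve.pullback_id] at this

section Generators

variable (hb : SGA4.HasDisjointUniversalCoproducts.{v, u} E)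
variable {ι₀ : Type u} (obj : ι₀ → E) (hdet : (ObjectProperty.ofObj obj).IsDetecting)

include hc hb hdet in
/-- (C3): every object is covered by a coproduct of generators. -/
theorem exists_generator_cover (X : E) :
    ∃ (c : Cofan (fun a : (Σ j : ι₀, (obj j ⟶ X)) => obj a.1)) (hcol : IsColimit c),
      IsUniversalColimit c ∧
      Sieve.generate (Presieve.singleton (Cofan.IsColimit.desc hcol (fun a => a.2))) ∈
        Sheaf.canonicalTopology E X := by
  obtain ⟨c, hcol, -, huniv⟩ := hb (Σ j : ι₀, (obj j ⟶ X)) (fun a => obj a.1)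
  refine ⟨c, hcol, huniv, ?_⟩
  set p := Cofan.IsColimit.desc hcol (fun a : (Σ j : ι₀, (obj j ⟶ X)) => a.2) with hp
  obtain ⟨I, e, m, hem, hmono, heff⟩ := exists_image hc p
  haveI := hmono
  haveI : IsIso m := by
    apply isIso_of_mono_of_factors hdet m
    rintro G ⟨j⟩ x
    refine ⟨c.inj ⟨j, x⟩ ≫ e, ?_⟩
    rw [Category.assoc, hem, hp]
    exact Cofan.IsColimit.fac hcol _ _
  apply mem_canonical_of_pullback_iso m
  refine (Sheaf.canonicalTopology E).superset_covering ?_ (generate_singleton_mem_canonical e heff)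
  rintro T t ⟨W, k, _, ⟨⟩, rfl⟩
  change (Sieve.generate (Presieve.singleton p)).arrows ((k ≫ e) ≫ m)
  rw [Category.assoc, hem]
  exact ⟨_, k, p, Presieve.singleton.mk, rfl⟩

include hc hb hdet in
/-- (C4): the generators form a cover-dense subcategory for the canonical topology. -/
theorem inducedFunctor_isCoverDense :
    (inducedFunctor obj).IsCoverDense (Sheaf.canonicalTopology E) where
  is_cover X := by
    obtain ⟨c, hcol, huniv, hcov⟩ := exists_generator_cover hc hb obj hdet X
    refine (Sheaf.canonicalTopology E).transitive hcov _ ?_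
    rintro T t ⟨W, k, _, ⟨⟩, rfl⟩
    have h1 := (Sheaf.canonicalTopology E).pullback_stable k (ofArrows_inj_mem_canonical c huniv)
    refine (Sheaf.canonicalTopology E).superset_covering ?_ h1
    rintro T' t' ⟨W', k', _, ⟨a⟩, hfac⟩
    change (Sieve.coverByImage (inducedFunctor obj) X).arrows (t' ≫ k ≫ _)
    refine ⟨⟨a.1, k', a.2, ?_⟩⟩
    rw [← Category.assoc t' k, ← hfac, Category.assoc]
    congr 1
    exact (Cofan.IsColimit.fac hcol _ _).symm

end Generators

end Groth.Agent.Helper6.Gir
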