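import Mathlib
import Groth.Prelude.Def_SGA4a
import Groth.Agent.Lib.Helper6.Giraud.GirImage

set_option linter.unusedSectionVars false
set_option linter.unusedVariables false
set_option linter.unusedSimpArgs false
set_option autoImplicit false
set_option linter.style.haveILetI false
set_option maxHeartbeats 400000

noncomputable section

namespace Groth.Agent.Helper6.Gir

open CategoryTheory Limits Opposite

universe v u

variable {E : Type v} [Category.{u} E] [HasFiniteLimits E]
variable (hc : ∀ (R A : E) (p₁ p₂ : R ⟶ A), SGA4.IsEquivRel p₁ p₂ →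
  SGA4.IsEffectiveUniversalEquivRel p₁ p₂)
variable (hb : SGA4.HasDisjointUniversalCoproducts.{v, u} E)
variable {ι₀ : Type u} (obj : ι₀ → E) (hdet : (ObjectProperty.ofObj obj).IsDetecting)

local notation "K" => Sheaf.canonicalTopology E

include hc hb hdet in
/-- (C6): a local sieve on `B` is the sieve of morphisms factoring through a subobject. -/
theorem exists_mono_of_local_sieve {B : E} (P : Sieve B)
    (hloc : ∀ (T : E) (t : T ⟶ B), P.pullback t ∈ K T → P.arrows t) :
    ∃ (I : E) (m : I ⟶ B), Mono m ∧ ∀ (T : E) (t : T ⟶ B),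
      P.arrows t ↔ ∃ t' : T ⟶ I, t' ≫ m = t := by
  obtain ⟨c, hcol, -, huniv⟩ := hb (Σ j : ι₀, {t : obj j ⟶ B // P.arrows t}) (fun a => obj a.1)
  set q := Cofan.IsColimit.desc hcol
    (fun a : (Σ j : ι₀, {t : obj j ⟶ B // P.arrows t}) => a.2.1) with hq
  have hqa : ∀ a, c.inj a ≫ q = a.2.1 := fun a => Cofan.IsColimit.fac hcol _ a
  obtain ⟨I, e, m, hem, hmono, heff⟩ := exists_image hc q
  haveI := hmono
  have hm : P.arrows m := by
    apply hloc
    refine (K).transitive (generate_singleton_mem_canonical e heff) _ ?_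
    rintro T t ⟨W, k, _, ⟨⟩, rfl⟩
    have h1 := (K).pullback_stable k (ofArrows_inj_mem_canonical c huniv)
    refine (K).superset_covering ?_ h1
    rintro T' t' ⟨W', k', _, ⟨a⟩, hfac⟩
    change P.arrows ((t' ≫ k ≫ e) ≫ m)
    have : (t' ≫ k ≫ e) ≫ m = k' ≫ a.2.1 := by
      rw [Category.assoc, Category.assoc, hem, ← Category.assoc, ← hfac, Category.assoc, hqa]
    rw [this]
    exact P.downward_closed a.2.2 k'
  refine ⟨I, m, hmono, ?_⟩
  intro T t
  constructor
  · intro ht
    haveI : IsIso (pullback.snd m t) := by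
      apply isIso_of_mono_of_factors hdet
      rintro G ⟨j⟩ x
      have hx : P.arrows (x ≫ t) := P.downward_closed ht x
      refine ⟨pullback.lift (c.inj ⟨j, ⟨x ≫ t, hx⟩⟩ ≫ e) x ?_, pullback.lift_snd _ _ _⟩
      rw [Category.assoc, hem]
      exact hqa ⟨j, ⟨x ≫ t, hx⟩⟩
    refine ⟨inv (pullback.snd m t) ≫ pullback.fst m t, ?_⟩
    rw [Category.assoc, pullback.condition, IsIso.inv_hom_id_assoc]
  · rintro ⟨t', rfl⟩
    exact P.downward_closed hm t'

include hb in
/-- Strictness of initial objects. -/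
theorem isInitial_of_hom_to_isInitial {O Y : E} (hO : IsInitial O) (g : Y ⟶ O) :
    Nonempty (IsInitial Y) := by
  obtain ⟨c₀, hcol₀, -, huniv₀⟩ := hb PEmpty.{u + 1} (fun e => e.elim)
  exact isInitial_of_hom_to_universal_empty huniv₀ (g ≫ hO.to c₀.pt)

include hc hb hdet in
/-- (C7): sheaves for the canonical topology are representable. -/
theorem exists_representation (F : Eᵒᵖ ⥤ Type u) (hF : Presieve.IsSheaf K F) :
    ∃ X : E, Nonempty (yoneda.obj X ≅ F) := by
  -- Step 1: the coproduct of all sections over generators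
  obtain ⟨c, hcol, hdis, huniv⟩ := hb (Σ j : ι₀, F.obj (op (obj j))) (fun a => obj a.1)
  haveI := hdis
  -- Step 2: the universal section
  have hσ : ∃ σ : F.obj (op c.pt), ∀ a, F.map (c.inj a).op σ = a.2 := by
    have h1 : Presieve.IsSheafFor F (Presieve.ofArrows _ c.inj) := by
      rw [Presieve.isSheafFor_iff_generate]
      exact hF _ (ofArrows_inj_mem_canonical c huniv)
    rw [Presieve.isSheafFor_arrows_iff] at h1
    have hcompat : Presieve.Arrows.Compatible F c.inj (fun a => a.2) := by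
      intro a a' T g g' hgg'
      by_cases haa' : a = a'
      · subst haa'
        haveI : Mono (c.inj a) := Mono.of_coproductDisjoint hcol a
        rw [(cancel_mono (c.inj a)).1 hgg']
      · have hT : ∀ (Y : E) (y : Y ⟶ T), Nonempty (IsInitial Y) := by
          intro Y y
          obtain ⟨hO⟩ := CoproductDisjoint.nonempty_isInitial_of_ne hcol haa'
            (pullback.cone (c.inj a) (c.inj a')) (pullback.isLimit _ _)
          refine isInitial_of_hom_to_isInitial hb hO
            (pullback.lift (y ≫ g) (y ≫ g') (by rw [Category.assoc, Category.assoc, hgg']))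
        haveI := subsingleton_of_isSheaf_of_bot_mem hF (bot_mem_canonical hT)
        exact Subsingleton.elim _ _
    obtain ⟨σ, hσ, -⟩ := h1 _ hcompat
    exact ⟨σ, hσ⟩
  obtain ⟨σ, hσ⟩ := hσ
  have hmapσ : ∀ {T T' : E} (k : T' ⟶ T) (t : T ⟶ c.pt),
      F.map (k ≫ t).op σ = F.map k.op (F.map t.op σ) := by
    intro T T' k t
    rw [op_comp, Functor.map_comp_apply]
  -- Step 3: the kernel pair sieve
  let P : Sieve (c.pt ⨯ c.pt) :=
    { arrows := fun T t => F.map (t ≫ prod.fst).op σ = F.map (t ≫ prod.snd).op σ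
      downward_closed := by
        intro T T' t ht k
        change F.map ((k ≫ t) ≫ prod.fst).op σ = F.map ((k ≫ t) ≫ prod.snd).op σ
        rw [Category.assoc, Category.assoc, hmapσ k (t ≫ prod.fst), hmapσ k (t ≫ prod.snd), ht] }
  have hPloc : ∀ (T : E) (t : T ⟶ c.pt ⨯ c.pt), P.pullback t ∈ K T → P.arrows t := by
    intro T t ht
    refine (hF.isSeparated _ ht).ext ?_
    intro T' k hk
    have hk' : F.map ((k ≫ t) ≫ prod.fst).op σ = F.map ((k ≫ t) ≫ prod.snd).op σ := hk
    rw [Category.assoc, Category.assoc, hmapσ k (t ≫ prod.fst), hmapσ k (t ≫ prod.snd)] at hk'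
    exact hk'
  obtain ⟨R, r, hr, hRP⟩ := exists_mono_of_local_sieve hc hb obj hdet P hPloc
  haveI := hr
  -- Step 4: the equivalence relation
  have hiff : ∀ (T : E) (a b : T ⟶ c.pt),
      (∃ k : T ⟶ R, k ≫ (r ≫ prod.fst) = a ∧ k ≫ (r ≫ prod.snd) = b) ↔
        F.map a.op σ = F.map b.op σ := by
    intro T a b
    constructor
    · rintro ⟨k, rfl, rfl⟩
      have : P.arrows (k ≫ r) := (hRP T (k ≫ r)).2 ⟨k, rfl⟩
      have h2 : F.map ((k ≫ r) ≫ prod.fst).op σ = F.map ((k ≫ r) ≫ prod.snd).op σ := this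
      rw [Category.assoc, Category.assoc] at h2
      exact h2
    · intro hab
      have : P.arrows (prod.lift a b) := by
        change F.map (prod.lift a b ≫ prod.fst).op σ = F.map (prod.lift a b ≫ prod.snd).op σ
        rw [prod.lift_fst, prod.lift_snd]
        exact hab
      obtain ⟨k, hk⟩ := (hRP T _).1 this
      refine ⟨k, ?_, ?_⟩
      · rw [← Category.assoc, hk, prod.lift_fst]
      · rw [← Category.assoc, hk, prod.lift_snd]
  have heq : SGA4.IsEquivRel (r ≫ prod.fst) (r ≫ prod.snd) := by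
    refine isEquivRel_of_iff _ _ ?_ (fun T a b => F.map a.op σ = F.map b.op σ) ?_ hiff
    · intro T k k' h1 h2
      rw [← cancel_mono r]
      apply Limits.prod.hom_ext
      · simpa using h1
      · simpa using h2
    · intro T
      exact ⟨fun _ => rfl, fun h => h.symm, fun h h' => h.trans h'⟩
  obtain ⟨X, π, hpb, hpo, heff⟩ := hc _ _ _ _ heq
  -- Step 5: the universal element
  have hξ : ∃ ξ : F.obj (op X), F.map π.op ξ = σ := by
    have h1 : Presieve.IsSheafFor F (Presieve.ofArrows (fun _ : PUnit.{1} => c.pt) (fun _ => π)) := by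
      rw [Presieve.isSheafFor_iff_generate, Presieve.ofArrows_pUnit]
      exact hF _ (generate_singleton_mem_canonical π heff)
    rw [Presieve.isSheafFor_arrows_iff] at h1
    have hcompat : Presieve.Arrows.Compatible F (fun _ : PUnit.{1} => π) (fun _ => σ) := by
      intro _ _ T g₁ g₂ hg
      exact (hiff T g₁ g₂).1 ⟨hpb.lift g₁ g₂ hg, hpb.lift_fst _ _ _, hpb.lift_snd _ _ _⟩
    obtain ⟨ξ, hξ, -⟩ := h1 _ hcompat
    exact ⟨ξ, hξ PUnit.unit⟩
  obtain ⟨ξ, hξ⟩ := hξ
  have hmap : ∀ {T T' : E} (k : T' ⟶ T) (x : T ⟶ X), F.map (k ≫ x).op ξ = F.map k.op (F.map x.op ξ) := by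
    intro T T' k x
    rw [op_comp, Functor.map_comp_apply]
  -- Step 6: bijectivity on generators
  have inj_gen : ∀ (j : ι₀) (x x' : obj j ⟶ X), F.map x.op ξ = F.map x'.op ξ → x = x' := by
    intro j x x' hxx'
    haveI h1 := heff _ x
    haveI h2 := heff _ (pullback.snd π x ≫ x')
    obtain ⟨Q, q, hq, a, a', ha, ha'⟩ : ∃ (Q : E) (q : Q ⟶ obj j) (_ : Epi q) (a a' : Q ⟶ c.pt),
        a ≫ π = q ≫ x ∧ a' ≫ π = q ≫ x' := by
      refine ⟨_, pullback.snd π (pullback.snd π x ≫ x') ≫ pullback.snd π x, epi_comp _ _,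
        pullback.snd π (pullback.snd π x ≫ x') ≫ pullback.fst π x,
        pullback.fst π (pullback.snd π x ≫ x'), ?_, ?_⟩
      · simp only [Category.assoc, pullback.condition]
      · simp only [Category.assoc, pullback.condition]
    have e1 : F.map a.op σ = F.map a'.op σ := by
      rw [← hξ, ← Functor.map_comp_apply, ← Functor.map_comp_apply, ← op_comp, ← op_comp, ha, ha',
        hmap, hmap, hxx']
    obtain ⟨k, hk1, hk2⟩ := (hiff Q a a').2 e1
    have : a ≫ π = a' ≫ π := by
      calc a ≫ π = (k ≫ (r ≫ prod.fst)) ≫ π := by rw [hk1]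
        _ = k ≫ ((r ≫ prod.fst) ≫ π) := Category.assoc _ _ _
        _ = k ≫ ((r ≫ prod.snd) ≫ π) := by rw [hpb.w]
        _ = (k ≫ (r ≫ prod.snd)) ≫ π := (Category.assoc _ _ _).symm
        _ = a' ≫ π := by rw [hk2]
    rw [← cancel_epi q, ← ha, ← ha', this]
  have surj_gen : ∀ (j : ι₀) (s : F.obj (op (obj j))), ∃ x : obj j ⟶ X, F.map x.op ξ = s := by
    intro j s
    refine ⟨c.inj ⟨j, s⟩ ≫ π, ?_⟩
    rw [hmap, hξ]
    exact hσ ⟨j, s⟩
  -- Step 7: bijectivity everywhere
  have hsep := hdet.isSeparating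
  have inj_all : ∀ (T : E) (x x' : T ⟶ X), F.map x.op ξ = F.map x'.op ξ → x = x' := by
    intro T x x' hxx'
    apply hsep
    rintro G ⟨j⟩ h
    apply inj_gen
    rw [hmap, hmap, hxx']
  haveI hcd := inducedFunctor_isCoverDense hc hb obj hdet
  have hST : ∀ T : E, Sieve.generate (Presieve.ofArrows (fun a : (Σ j : ι₀, (obj j ⟶ T)) => obj a.1)
      (fun a => a.2)) ∈ K T := by
    intro T
    refine (K).superset_covering ?_ ((inducedFunctor obj).is_cover_of_isCoverDense K T)
    rintro T' f ⟨⟨j, lift, map, fac⟩⟩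
    exact ⟨_, lift, map, Presieve.ofArrows.mk (⟨j, map⟩ : Σ j : ι₀, (obj j ⟶ T)), fac⟩
  have surj_all : ∀ (T : E) (s : F.obj (op T)), ∃ x : T ⟶ X, F.map x.op ξ = s := by
    intro T s
    have h1 : Presieve.IsSheafFor (yoneda.obj X)
        (Presieve.ofArrows (fun a : (Σ j : ι₀, (obj j ⟶ T)) => obj a.1) (fun a => a.2)) := by
      rw [Presieve.isSheafFor_iff_generate]
      exact Sheaf.isSheaf_yoneda_obj X _ (hST T)
    rw [Presieve.isSheafFor_arrows_iff] at h1
    choose xa hxa using fun a : (Σ j : ι₀, (obj j ⟶ T)) => surj_gen a.1 (F.map a.2.op s)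
    have hcompat : Presieve.Arrows.Compatible (yoneda.obj X)
        (fun a : (Σ j : ι₀, (obj j ⟶ T)) => a.2) xa := by
      intro a a' T' g g' hgg'
      change g ≫ xa a = g' ≫ xa a'
      apply inj_all
      rw [hmap, hmap, hxa, hxa, ← Functor.map_comp_apply, ← Functor.map_comp_apply, ← op_comp,
        ← op_comp, hgg']
    obtain ⟨x, hx, -⟩ := h1 xa hcompat
    have hx' : ∀ a : (Σ j : ι₀, (obj j ⟶ T)), a.2 ≫ x = xa a := hx
    refine ⟨x, ?_⟩
    refine (hF.isSeparated _ (hST T)).ext ?_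
    rintro T' k ⟨W, l, _, ⟨a⟩, rfl⟩
    rw [← hmap, Category.assoc, hx', hmap, hxa, ← Functor.map_comp_apply, ← op_comp]
  -- Step 8: the isomorphism
  refine ⟨X, ⟨NatIso.ofComponents (fun T => Equiv.toIso (Equiv.ofBijective
    (fun x : T.unop ⟶ X => F.map x.op ξ) ⟨fun x x' h => inj_all _ x x' h, surj_all _⟩)) ?_⟩⟩
  intro T T' f
  ext x
  exact hmap f.unop x

end Groth.Agent.Helper6.Gir
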