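import Mathlib
import Groth.Prelude.Def_SGA4a
import Groth.Agent.Lib.Helper6.Giraud.GirRep

set_option linter.unusedSectionVars false
set_option linter.unusedVariables false
set_option linter.unusedSimpArgs false
set_option autoImplicit false
set_option linter.style.haveILetI false
set_option maxHeartbeats 400000

noncomputable section

namespace Groth.Agent.Helper6.Gir

open CategoryTheory Limits Opposite

universe v u

variable {E : Type v} [Category.{u} E] [HasFiniteLimits E]

/-- Giraud's theorem, for a small family of generators given as a function. -/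
theorem isTopos_of_generators
    (hb : SGA4.HasDisjointUniversalCoproducts.{v, u} E)
    (hc : ∀ (R A : E) (p₁ p₂ : R ⟶ A), SGA4.IsEquivRel p₁ p₂ →
      SGA4.IsEffectiveUniversalEquivRel p₁ p₂)
    {ι₀ : Type u} (obj : ι₀ → E) (hdet : (ObjectProperty.ofObj obj).IsDetecting) :
    SGA4.IsTopos.{v, u} E := by
  haveI := inducedFunctor_isCoverDense hc hb obj hdet
  let K := Sheaf.canonicalTopology E
  let e₁ : Sheaf ((inducedFunctor obj).inducedTopology K) (Type u) ≌ Sheaf K (Type u) :=
    (inducedFunctor obj).sheafInducedTopologyEquivOfIsCoverDense K (Type u)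
  haveI : (GrothendieckTopology.yoneda K).EssSurj := by
    constructor
    intro G
    obtain ⟨X, ⟨φ⟩⟩ := exists_representation hc hb obj hdet G.obj
      ((isSheaf_iff_isSheaf_of_type _ _).1 G.property)
    exact ⟨X, ⟨(fullyFaithfulSheafToPresheaf K (Type u)).preimageIso φ⟩⟩
  haveI : (GrothendieckTopology.yoneda K).IsEquivalence := { }
  exact ⟨InducedCategory E obj, inferInstance, (inducedFunctor obj).inducedTopology K,
    ⟨(GrothendieckTopology.yoneda K).asEquivalence.trans e₁.symm⟩⟩

/-- Giraud's theorem. -/
theorem isTopos_of_giraud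
    (hb : SGA4.HasDisjointUniversalCoproducts.{v, u} E)
    (hc : ∀ (R A : E) (p₁ p₂ : R ⟶ A), SGA4.IsEquivRel p₁ p₂ →
      SGA4.IsEffectiveUniversalEquivRel p₁ p₂)
    (hd : ∃ P : ObjectProperty E, ObjectProperty.Small.{u} P ∧ P.IsDetecting) :
    SGA4.IsTopos.{v, u} E := by
  obtain ⟨P, hsmall, hdetP⟩ := hd
  haveI : Small.{u} (Subtype P) := hsmall
  let obj : Shrink.{u} (Subtype P) → E := fun j => ((equivShrink (Subtype P)).symm j).1
  refine isTopos_of_generators hb hc obj ?_
  intro X Y f hf
  apply hdetP
  intro G hG h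
  have e : obj (equivShrink (Subtype P) ⟨G, hG⟩) = G := by
    simp [obj]
  have : ObjectProperty.ofObj obj G := by
    rw [← e]
    exact ⟨_⟩
  exact hf G this h

end Groth.Agent.Helper6.Gir
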