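import Mathlib

set_option linter.unusedSectionVars false
set_option linter.unusedVariables false
set_option linter.unusedSimpArgs false
set_option autoImplicit false
set_option linter.style.haveILetI false
set_option maxHeartbeats 400000

noncomputable section

namespace Groth.Agent.Helper6.Giraud.Glue

open CategoryTheory Limits

universe v₁ v₂ v₃ u₁ u₂ u₃

variable {E : Type u₁} [Category.{v₁} E] {A : Type u₂} [Category.{v₂} A]
  {F : Type u₃} [Category.{v₃} F]
variable {jS : E ⥤ A} {jP : A ⥤ E} (adjJ : jS ⊣ jP) {iS : E ⥤ F} {iP : F ⥤ E} (adjI : iS ⊣ iP)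

/-- The gluing functor `X ↦ (i^*X, j^*X, i^*X ⟶ i^* j_* j^* X)`. -/
def glueFunctor : E ⥤ Comma (𝟭 F) (jP ⋙ iS) where
  obj X := { left := iS.obj X, right := jS.obj X, hom := iS.map (adjJ.unit.app X) }
  map {X X'} m :=
    { left := iS.map m
      right := jS.map m
      w := by
        dsimp
        rw [← iS.map_comp, ← iS.map_comp]
        congr 1
        exact adjJ.unit.naturality m }
  map_id X := by
    apply Comma.hom_ext <;> simp
  map_comp f g := by
    apply Comma.hom_ext <;> simp

variable [HasPullbacks E] [IsIso adjJ.counit] [IsIso adjI.counit]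
  [PreservesLimitsOfShape WalkingCospan jS] [PreservesLimitsOfShape WalkingCospan iS]
  (hterm : ∀ Y : F, IsTerminal (jS.obj (iP.obj Y)))
  (hcons : ∀ {X X' : E} (m : X ⟶ X'), IsIso (jS.map m) → IsIso (iS.map m) → IsIso m)

theorem isIso_iS_unit (Z : E) : IsIso (iS.map (adjI.unit.app Z)) := by
  have h := adjI.left_triangle_components Z
  have : IsIso (iS.map (adjI.unit.app Z) ≫ adjI.counit.app (iS.obj Z)) := by
    rw [h]; exact IsIso.id _
  exact IsIso.of_isIso_comp_right _ (adjI.counit.app (iS.obj Z))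

theorem isIso_jS_unit (Z : E) : IsIso (jS.map (adjJ.unit.app Z)) := by
  have h := adjJ.left_triangle_components Z
  have : IsIso (jS.map (adjJ.unit.app Z) ≫ adjJ.counit.app (jS.obj Z)) := by
    rw [h]; exact IsIso.id _
  exact IsIso.of_isIso_comp_right _ (adjJ.counit.app (jS.obj Z))

section lemmaA

variable {Y : F} {B : A} (φ : Y ⟶ iS.obj (jP.obj B))

include hterm in
theorem isIso_jS_snd :
    IsIso (jS.map (pullback.snd (iP.map φ) (adjI.unit.app (jP.obj B)))) := by
  have hp := (IsPullback.of_hasPullback (iP.map φ) (adjI.unit.app (jP.obj B))).map jS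
  have : IsIso (jS.map (iP.map φ)) := isIso_of_isTerminal (hterm _) (hterm _) _
  exact hp.isIso_snd_of_isIso

theorem isIso_iS_fst :
    IsIso (iS.map (pullback.fst (iP.map φ) (adjI.unit.app (jP.obj B)))) := by
  have hp := (IsPullback.of_hasPullback (iP.map φ) (adjI.unit.app (jP.obj B))).map iS
  have : IsIso (iS.map (adjI.unit.app (jP.obj B))) := isIso_iS_unit adjI _
  exact hp.isIso_fst_of_isIso

end lemmaA

theorem canonical_comm (X : E) :
    adjI.unit.app X ≫ iP.map (iS.map (adjJ.unit.app X)) =
      adjJ.unit.app X ≫ adjI.unit.app (jP.obj (jS.obj X)) :=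
  (adjI.unit.naturality (adjJ.unit.app X)).symm

include hterm hcons in
/-- The canonical square of `X` is a pullback. -/
theorem canonical_isPullback (X : E) :
    IsPullback (adjI.unit.app X) (adjJ.unit.app X) (iP.map (iS.map (adjJ.unit.app X)))
      (adjI.unit.app (jP.obj (jS.obj X))) := by
  let φ₀ : iS.obj X ⟶ iS.obj (jP.obj (jS.obj X)) := iS.map (adjJ.unit.app X)
  let k : X ⟶ pullback (iP.map φ₀) (adjI.unit.app (jP.obj (jS.obj X))) :=
    pullback.lift (adjI.unit.app X) (adjJ.unit.app X) (canonical_comm adjJ adjI X)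
  have hk1 : k ≫ pullback.fst _ _ = adjI.unit.app X := pullback.lift_fst _ _ _
  have hk2 : k ≫ pullback.snd _ _ = adjJ.unit.app X := pullback.lift_snd _ _ _
  have hj : IsIso (jS.map k) := by
    have h1 : IsIso (jS.map (pullback.snd (iP.map φ₀) (adjI.unit.app (jP.obj (jS.obj X))))) :=
      isIso_jS_snd adjI hterm φ₀
    have h2 : IsIso (jS.map k ≫
        jS.map (pullback.snd (iP.map φ₀) (adjI.unit.app (jP.obj (jS.obj X))))) := by
      rw [← jS.map_comp, hk2]
      exact isIso_jS_unit adjJ X
    exact IsIso.of_isIso_comp_right _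
      (jS.map (pullback.snd (iP.map φ₀) (adjI.unit.app (jP.obj (jS.obj X)))))
  have hi : IsIso (iS.map k) := by
    have h1 : IsIso (iS.map (pullback.fst (iP.map φ₀) (adjI.unit.app (jP.obj (jS.obj X))))) :=
      isIso_iS_fst adjI φ₀
    have h2 : IsIso (iS.map k ≫
        iS.map (pullback.fst (iP.map φ₀) (adjI.unit.app (jP.obj (jS.obj X))))) := by
      rw [← iS.map_comp, hk1]
      exact isIso_iS_unit adjI X
    exact IsIso.of_isIso_comp_right _
      (iS.map (pullback.fst (iP.map φ₀) (adjI.unit.app (jP.obj (jS.obj X)))))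
  have hkiso : IsIso k := hcons k hj hi
  exact IsPullback.of_iso_pullback ⟨canonical_comm adjJ adjI X⟩ (asIso k) hk1 hk2

include adjI hterm hcons in
theorem glueFunctor_faithful : (glueFunctor adjJ (iS := iS)).Faithful := by
  constructor
  intro X X' m m' h
  have hl : iS.map m = iS.map m' := congrArg CommaMorphism.left h
  have hr : jS.map m = jS.map m' := congrArg CommaMorphism.right h
  apply (canonical_isPullback adjJ adjI hterm hcons X').hom_ext
  · rw [← adjI.unit_naturality m, ← adjI.unit_naturality m', hl]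
  · rw [← adjJ.unit_naturality m, ← adjJ.unit_naturality m', hr]

include adjI hterm hcons in
theorem glueFunctor_full : (glueFunctor adjJ (iS := iS)).Full := by
  constructor
  intro X X' f
  let fl : iS.obj X ⟶ iS.obj X' := f.left
  let fr : jS.obj X ⟶ jS.obj X' := f.right
  have hw : fl ≫ iS.map (adjJ.unit.app X') =
      iS.map (adjJ.unit.app X) ≫ iS.map (jP.map fr) := f.w
  let a : X ⟶ iP.obj (iS.obj X') := adjI.unit.app X ≫ iP.map fl
  let b : X ⟶ jP.obj (jS.obj X') := adjJ.unit.app X ≫ jP.map fr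
  have hab : a ≫ iP.map (iS.map (adjJ.unit.app X')) =
      b ≫ adjI.unit.app (jP.obj (jS.obj X')) := by
    dsimp only [a, b]
    rw [Category.assoc, ← iP.map_comp, hw, ← iS.map_comp, adjI.unit_naturality]
  let m : X ⟶ X' := (canonical_isPullback adjJ adjI hterm hcons X').lift a b hab
  have hm1 : m ≫ adjI.unit.app X' = a := IsPullback.lift_fst _ _ _ _
  have hm2 : m ≫ adjJ.unit.app X' = b := IsPullback.lift_snd _ _ _ _
  refine ⟨m, ?_⟩
  apply Comma.hom_ext
  · change iS.map m = fl
    apply (adjI.homEquiv _ _).injective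
    rw [adjI.homEquiv_unit, adjI.homEquiv_unit, adjI.unit_naturality, hm1]
  · change jS.map m = fr
    apply (adjJ.homEquiv _ _).injective
    rw [adjJ.homEquiv_unit, adjJ.homEquiv_unit, adjJ.unit_naturality, hm2]

include adjI hterm in
theorem glueFunctor_essSurj : (glueFunctor adjJ (iS := iS)).EssSurj := by
  constructor
  intro c
  let Y : F := c.left
  let B : A := c.right
  let φ : Y ⟶ iS.obj (jP.obj B) := c.hom
  let X : E := pullback (iP.map φ) (adjI.unit.app (jP.obj B))
  have h1 : IsIso (iS.map (pullback.fst (iP.map φ) (adjI.unit.app (jP.obj B)))) :=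
    isIso_iS_fst adjI φ
  have h2 : IsIso (jS.map (pullback.snd (iP.map φ) (adjI.unit.app (jP.obj B)))) :=
    isIso_jS_snd adjI hterm φ
  let l : iS.obj X ≅ Y :=
    asIso (iS.map (pullback.fst (iP.map φ) (adjI.unit.app (jP.obj B)))) ≪≫
      asIso (adjI.counit.app Y)
  let r : jS.obj X ≅ B :=
    asIso (jS.map (pullback.snd (iP.map φ) (adjI.unit.app (jP.obj B)))) ≪≫
      asIso (adjJ.counit.app B)
  refine ⟨X, ⟨Comma.isoMk l r ?_⟩⟩
  change (iS.map (pullback.fst (iP.map φ) (adjI.unit.app (jP.obj B))) ≫ adjI.counit.app Y) ≫ φ =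
    iS.map (adjJ.unit.app X) ≫ iS.map (jP.map
      (jS.map (pullback.snd (iP.map φ) (adjI.unit.app (jP.obj B))) ≫ adjJ.counit.app B))
  have e1 : adjJ.unit.app X ≫ jP.map
      (jS.map (pullback.snd (iP.map φ) (adjI.unit.app (jP.obj B))) ≫ adjJ.counit.app B) =
      pullback.snd (iP.map φ) (adjI.unit.app (jP.obj B)) := by
    simp
  have e2 : adjI.counit.app Y ≫ φ = iS.map (iP.map φ) ≫ adjI.counit.app _ :=
    (adjI.counit_naturality φ).symm
  have e3 : iS.map (adjJ.unit.app X) ≫ iS.map (jP.map
      (jS.map (pullback.snd (iP.map φ) (adjI.unit.app (jP.obj B))) ≫ adjJ.counit.app B)) =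
      iS.map (pullback.snd (iP.map φ) (adjI.unit.app (jP.obj B))) := by
    rw [← iS.map_comp, e1]
  have e4 : iS.map (adjI.unit.app (jP.obj B)) ≫ adjI.counit.app (iS.obj (jP.obj B)) = 𝟙 _ :=
    adjI.left_triangle_components _
  refine Eq.trans ?_ e3.symm
  calc (iS.map (pullback.fst (iP.map φ) (adjI.unit.app (jP.obj B))) ≫ adjI.counit.app Y) ≫ φ
      = iS.map (pullback.fst (iP.map φ) (adjI.unit.app (jP.obj B))) ≫
          iS.map (iP.map φ) ≫ adjI.counit.app _ := by rw [Category.assoc, e2]
    _ = iS.map (pullback.fst (iP.map φ) (adjI.unit.app (jP.obj B)) ≫ iP.map φ) ≫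
          adjI.counit.app _ := by rw [iS.map_comp, Category.assoc]
    _ = iS.map (pullback.snd (iP.map φ) (adjI.unit.app (jP.obj B)) ≫
          adjI.unit.app (jP.obj B)) ≫ adjI.counit.app _ := by rw [pullback.condition]
    _ = iS.map (pullback.snd (iP.map φ) (adjI.unit.app (jP.obj B))) ≫
          (iS.map (adjI.unit.app (jP.obj B)) ≫ adjI.counit.app (iS.obj (jP.obj B))) := by
        rw [iS.map_comp, Category.assoc]
    _ = iS.map (pullback.snd (iP.map φ) (adjI.unit.app (jP.obj B))) := by
        rw [e4, Category.comp_id]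

include adjI hterm hcons in
/-- The gluing functor is an equivalence. -/
theorem glueFunctor_isEquivalence : (glueFunctor adjJ (iS := iS)).IsEquivalence := by
  haveI := glueFunctor_faithful adjJ adjI hterm hcons
  haveI := glueFunctor_full adjJ adjI hterm hcons
  haveI := glueFunctor_essSurj adjJ adjI hterm
  exact { }

end Groth.Agent.Helper6.Giraud.Glue
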