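import Mathlib

set_option linter.unusedSectionVars false
set_option linter.unusedVariables false
set_option linter.unusedSimpArgs false
set_option autoImplicit false
set_option linter.style.haveILetI false
set_option maxHeartbeats 400000

noncomputable section

namespace Groth.Agent.Helper6.GlueComma

open CategoryTheory Limits Opposite

universe w' w v₁ v₂ v₃ u₁ u₂ u₃

variable {A : Type u₁} [Category.{v₁} A] {B : Type u₂} [Category.{v₂} B]
  {T : Type u₃} [Category.{v₃} T] {L : A ⥤ T} {R : B ⥤ T}

section Preserves

variable {J : Type w} [Category.{w'} J]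

instance preservesLimitsOfShape_fst [HasLimitsOfShape J A] [HasLimitsOfShape J B]
    [PreservesLimitsOfShape J R] : PreservesLimitsOfShape J (Comma.fst L R) where
  preservesLimit :=
    preservesLimit_of_preserves_limit_cone
      (Comma.coneOfPreservesIsLimit _ (limit.isLimit _) (limit.isLimit _))
      (limit.isLimit _)

instance preservesLimitsOfShape_snd [HasLimitsOfShape J A] [HasLimitsOfShape J B]
    [PreservesLimitsOfShape J R] : PreservesLimitsOfShape J (Comma.snd L R) where
  preservesLimit :=
    preservesLimit_of_preserves_limit_cone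
      (Comma.coneOfPreservesIsLimit _ (limit.isLimit _) (limit.isLimit _))
      (limit.isLimit _)

end Preserves

instance preservesFiniteLimits_fst [HasFiniteLimits A] [HasFiniteLimits B]
    [PreservesFiniteLimits R] : PreservesFiniteLimits (Comma.fst L R) :=
  ⟨fun J _ _ => inferInstance⟩

instance preservesFiniteLimits_snd [HasFiniteLimits A] [HasFiniteLimits B]
    [PreservesFiniteLimits R] : PreservesFiniteLimits (Comma.snd L R) :=
  ⟨fun J _ _ => inferInstance⟩

/-- A morphism of a comma category with invertible components is invertible. -/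
theorem isIso_of_components {X Y : Comma L R} (f : X ⟶ Y) [IsIso f.left] [IsIso f.right] :
    IsIso f := by
  have : f = (Comma.isoMk (asIso f.left) (asIso f.right) (by simpa using f.w)).hom := by
    ext <;> rfl
  rw [this]
  infer_instance

theorem mono_of_components {X Y : Comma L R} (f : X ⟶ Y) [Mono f.left] [Mono f.right] :
    Mono f := by
  constructor
  intro Z a b hab
  ext
  · rw [← cancel_mono f.left]
    exact congrArg CommaMorphism.left hab
  · rw [← cancel_mono f.right]
    exact congrArg CommaMorphism.right hab

/-- Pullback squares in a comma category can be checked componentwise. -/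
theorem isPullback_of_components [PreservesLimitsOfShape WalkingCospan R]
    {P X Y Z : Comma L R} {a : P ⟶ X} {b : P ⟶ Y} {f : X ⟶ Z} {g : Y ⟶ Z}
    (h₁ : IsPullback a.left b.left f.left g.left)
    (h₂ : IsPullback a.right b.right f.right g.right) : IsPullback a b f g := by
  have w : a ≫ f = b ≫ g := by
    ext
    · exact h₁.w
    · exact h₂.w
  refine ⟨⟨w⟩, ⟨?_⟩⟩
  refine Comma.fstSndJointlyReflectLimit ?_ ?_
  · exact (isLimitMapConePullbackConeEquiv (Comma.fst L R) w).symm h₁.isLimit
  · exact (isLimitMapConePullbackConeEquiv (Comma.snd L R) w).symm h₂.isLimit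

/-- Pushout squares in a comma category can be checked componentwise. -/
theorem isPushout_of_components [PreservesColimitsOfShape WalkingSpan L]
    {P X Y Z : Comma L R} {f : Z ⟶ X} {g : Z ⟶ Y} {a : X ⟶ P} {b : Y ⟶ P}
    (h₁ : IsPushout f.left g.left a.left b.left)
    (h₂ : IsPushout f.right g.right a.right b.right) : IsPushout f g a b := by
  have w : f ≫ a = g ≫ b := by
    ext
    · exact h₁.w
    · exact h₂.w
  refine ⟨⟨w⟩, ⟨?_⟩⟩
  refine Comma.fstSndJointlyReflectColimit ?_ ?_
  · exact (isColimitMapCoconePushoutCoconeEquiv (Comma.fst L R) w).symm h₁.isColimit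
  · exact (isColimitMapCoconePushoutCoconeEquiv (Comma.snd L R) w).symm h₂.isColimit

/-- Coequalizers in a comma category can be checked componentwise. -/
def isColimitCoforkOfComponents [PreservesColimitsOfShape WalkingParallelPair L]
    {X Y Z : Comma L R} {f g : X ⟶ Y} {h : Y ⟶ Z} (w : f ≫ h = g ≫ h)
    (h₁ : IsColimit (Cofork.ofπ h.left (show f.left ≫ h.left = g.left ≫ h.left from
      congrArg CommaMorphism.left w)))
    (h₂ : IsColimit (Cofork.ofπ h.right (show f.right ≫ h.right = g.right ≫ h.right from
      congrArg CommaMorphism.right w))) : IsColimit (Cofork.ofπ h w) := by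
  refine Comma.fstSndJointlyReflectColimit ?_ ?_
  · exact (isColimitMapCoconeCoforkEquiv (Comma.fst L R) w).symm h₁
  · exact (isColimitMapCoconeCoforkEquiv (Comma.snd L R) w).symm h₂

/-- Initial objects in a comma category can be checked componentwise. -/
def isInitialOfComponents [PreservesColimitsOfShape (Discrete PEmpty.{1}) L]
    {X : Comma L R} (h₁ : IsInitial X.left) (h₂ : IsInitial X.right) : IsInitial X := by
  have h : IsColimit (asEmptyCocone X) := by
    refine Comma.fstSndJointlyReflectColimit ?_ ?_
    · exact IsColimit.ofIsoColimit (isColimitChangeEmptyCocone _ h₁ _ (Iso.refl _))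
        (Cocone.ext (Iso.refl _) (fun j => j.as.elim))
    · exact IsColimit.ofIsoColimit (isColimitChangeEmptyCocone _ h₂ _ (Iso.refl _))
        (Cocone.ext (Iso.refl _) (fun j => j.as.elim))
  exact h

end Groth.Agent.Helper6.GlueComma
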