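import Mathlib
import Groth.Agent.Lib.Helper6.Giraud.Hat
import Groth.Agent.Lib.Helper6.Giraud.GlueCommaLim

set_option linter.unusedSectionVars false
set_option linter.unusedVariables false
set_option linter.unusedSimpArgs false
set_option autoImplicit false
set_option linter.style.haveILetI false
set_option maxHeartbeats 400000

noncomputable section

namespace Groth.Agent.Helper6.GlueDetect

open CategoryTheory Limits Opposite Groth.Agent.Helper6.Giraud

universe u

variable {C D : Type u} [SmallCategory C] [SmallCategory D]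
  {J : GrothendieckTopology C} {K : GrothendieckTopology D}
  (R : Sheaf J (Type u) ⥤ Sheaf K (Type u))

/-- A morphism of sheaves of sets which is sectionwise bijective is an isomorphism. -/
theorem isIso_of_bijective_app {F G : Sheaf K (Type u)} (m : F ⟶ G)
    (h : ∀ d : D, Function.Bijective (m.hom.app (op d))) : IsIso m := by
  haveI : ∀ X, IsIso (((sheafToPresheaf K (Type u)).map m).app X) := fun X => by
    rw [isIso_iff_bijective]
    exact h X.unop
  haveI : IsIso ((sheafToPresheaf K (Type u)).map m) := NatIso.isIso_of_isIso_app _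
  exact isIso_of_reflects_iso m (sheafToPresheaf K (Type u))

/-- The generators of the first kind `(∅, X₀, !)`. -/
def G1 {E : Sheaf K (Type u)} (hE : IsInitial E) (X₀ : Sheaf J (Type u)) :
    Comma (𝟭 (Sheaf K (Type u))) R :=
  { left := E, right := X₀, hom := hE.to _ }

/-- The generators of the second kind `(a y d, X₀, ψ)`. -/
def G2 (d : D) (X₀ : Sheaf J (Type u)) (ψ : (R.obj X₀).obj.obj (op d)) :
    Comma (𝟭 (Sheaf K (Type u))) R :=
  { left := yS K d, right := X₀, hom := hat ψ }

variable {R}

/-- Morphisms out of a generator of the first kind. -/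
def G1.homMk {E : Sheaf K (Type u)} (hE : IsInitial E) {X₀ : Sheaf J (Type u)}
    (Z : Comma (𝟭 (Sheaf K (Type u))) R) (b : X₀ ⟶ Z.right) : G1 R hE X₀ ⟶ Z :=
  { left := hE.to _, right := b, w := hE.hom_ext _ _ }

/-- Morphisms out of a generator of the second kind. -/
def G2.homMk {d : D} {X₀ : Sheaf J (Type u)} {ψ : (R.obj X₀).obj.obj (op d)}
    (Z : Comma (𝟭 (Sheaf K (Type u))) R) (y : Z.left.obj.obj (op d)) (b : X₀ ⟶ Z.right)
    (h : Z.hom.hom.app (op d) y = (R.map b).hom.app (op d) ψ) : G2 R d X₀ ψ ⟶ Z :=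
  { left := hat y
    right := b
    w := by
      change hat y ≫ Z.hom = hat ψ ≫ R.map b
      rw [hat_comp, hat_comp, h] }

theorem hat_injective {X : Sheaf K (Type u)} {d : D} {x x' : X.obj.obj (op d)}
    (h : (hat x : yS K d ⟶ X) = hat x') : x = x' := by
  have := congrArg (fun k : yS K d ⟶ X => k.hom.app (op d) (univ K d)) h
  simpa using this

/-- Every section of `R X` comes from a generator. -/
theorem exists_lift_section {κ : Cardinal.{u}} [Fact κ.IsRegular] [R.IsCardinalAccessible κ]
    [(sheafToPresheaf K (Type u)).IsCardinalAccessible κ]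
    {P : ObjectProperty (Sheaf J (Type u))} (hP : P.IsCardinalFilteredGenerator κ)
    (X : Sheaf J (Type u)) (d : D) (s : (R.obj X).obj.obj (op d)) :
    ∃ (X₀ : Sheaf J (Type u)) (_ : P X₀) (b : X₀ ⟶ X) (ψ : (R.obj X₀).obj.obj (op d)),
      (R.map b).hom.app (op d) ψ = s := by
  obtain ⟨I, _, _, ⟨pres⟩⟩ := hP.exists_colimitsOfShape X
  let Φ : Sheaf J (Type u) ⥤ Type u :=
    R ⋙ sheafToPresheaf K (Type u) ⋙ (evaluation Dᵒᵖ (Type u)).obj (op d)
  haveI : Φ.IsCardinalAccessible κ := inferInstance
  haveI := Φ.preservesColimitsOfShape_of_isCardinalAccessible κ I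
  have hc := isColimitOfPreserves Φ pres.isColimit
  obtain ⟨i, ψ, hψ⟩ := Types.jointly_surjective_of_isColimit hc s
  exact ⟨pres.diag.obj i, pres.prop_diag_obj i, pres.ι.app i, ψ, hψ⟩

/-- The key statement: a morphism of the glued category with the unique lifting property
against all generators is an isomorphism. -/
theorem isIso_of_unique_lifts {κ : Cardinal.{u}} [Fact κ.IsRegular] [R.IsCardinalAccessible κ]
    [(sheafToPresheaf K (Type u)).IsCardinalAccessible κ]
    {P : ObjectProperty (Sheaf J (Type u))} (hP : P.IsCardinalFilteredGenerator κ)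
    {E : Sheaf K (Type u)} (hE : IsInitial E)
    {Z Z' : Comma (𝟭 (Sheaf K (Type u))) R} (f : Z ⟶ Z')
    (h1 : ∀ X₀, P X₀ → ∀ (h : G1 R hE X₀ ⟶ Z'), ∃! h', h' ≫ f = h)
    (h2 : ∀ d X₀ ψ, P X₀ → ∀ (h : G2 R d X₀ ψ ⟶ Z'), ∃! h', h' ≫ f = h) : IsIso f := by
  have hsg := hP.isStrongGenerator
  -- `f.right` is an isomorphism
  haveI hmono : Mono f.right := by
    constructor
    intro T u v huv
    apply hsg.isSeparating
    intro X₀ hX₀ t
    obtain ⟨k, hk, hk'⟩ := h1 X₀ hX₀ (G1.homMk hE Z' (t ≫ u ≫ f.right))
    have e1 : G1.homMk hE Z (t ≫ u) = k := hk' _ (by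
      apply CommaMorphism.ext
      · exact hE.hom_ext _ _
      · change (t ≫ u) ≫ f.right = t ≫ u ≫ f.right
        rw [Category.assoc])
    have e2 : G1.homMk hE Z (t ≫ v) = k := hk' _ (by
      apply CommaMorphism.ext
      · exact hE.hom_ext _ _
      · change (t ≫ v) ≫ f.right = t ≫ u ≫ f.right
        rw [Category.assoc, huv])
    have := congrArg CommaMorphism.right (e1.trans e2.symm)
    exact this
  haveI hr : IsIso f.right := by
    apply hsg.isIso_of_mono
    intro X₀ hX₀ t
    obtain ⟨k, hk, -⟩ := h1 X₀ hX₀ (G1.homMk hE Z' t)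
    exact ⟨k.right, congrArg CommaMorphism.right hk⟩
  -- `f.left` is an isomorphism
  have hw : ∀ (d : D) (y : Z.left.obj.obj (op d)),
      Z'.hom.hom.app (op d) (f.left.hom.app (op d) y) =
        (R.map f.right).hom.app (op d) (Z.hom.hom.app (op d) y) := by
    intro d y
    have := f.w
    have h3 := congrArg (fun m : Z.left ⟶ R.obj Z'.right => m.hom.app (op d) y) this
    exact h3
  haveI hl : IsIso f.left := by
    apply isIso_of_bijective_app
    intro d
    constructor
    · intro y₁ y₂ hy
      have hs : Z.hom.hom.app (op d) y₁ = Z.hom.hom.app (op d) y₂ := by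
        have e1 := hw d y₁
        have e2 := hw d y₂
        rw [hy] at e1
        have e3 := e1.symm.trans e2
        have hinj : Function.Injective ((R.map f.right).hom.app (op d)) := by
          haveI : IsIso ((R.map f.right).hom.app (op d)) := by
            have : IsIso ((sheafToPresheaf K (Type u)).map (R.map f.right)) := inferInstance
            exact inferInstanceAs (IsIso (((sheafToPresheaf K (Type u)).map
              (R.map f.right)).app (op d)))
          exact ((isIso_iff_bijective _).1 inferInstance).1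
        exact hinj e3
      obtain ⟨X₀, hX₀, b, ψ, hψ⟩ := exists_lift_section hP Z.right d (Z.hom.hom.app (op d) y₁)
      let k₁ : G2 R d X₀ ψ ⟶ Z := G2.homMk Z y₁ b hψ.symm
      let k₂ : G2 R d X₀ ψ ⟶ Z := G2.homMk Z y₂ b (hs ▸ hψ.symm)
      obtain ⟨k, hk, hk'⟩ := h2 d X₀ ψ hX₀ (k₁ ≫ f)
      have e1 : k₁ = k := hk' _ rfl
      have e2 : k₂ = k := hk' _ (by
        apply CommaMorphism.ext
        · change hat y₂ ≫ f.left = hat y₁ ≫ f.left
          rw [hat_comp, hat_comp, hy]
        · rfl)
      have e3 := congrArg CommaMorphism.left (e1.trans e2.symm)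
      exact hat_injective e3
    · intro y'
      obtain ⟨X₀, hX₀, b, ψ, hψ⟩ := exists_lift_section hP Z'.right d (Z'.hom.hom.app (op d) y')
      obtain ⟨k, hk, -⟩ := h2 d X₀ ψ hX₀ (G2.homMk Z' y' b hψ.symm)
      have e1 := congrArg CommaMorphism.left hk
      have e2 : k.left ≫ f.left = hat y' := e1
      refine ⟨k.left.hom.app (op d) (univ K d), ?_⟩
      have e3 := congrArg (fun m : yS K d ⟶ Z'.left => m.hom.app (op d) (univ K d)) e2
      have e4 : (hat y' : yS K d ⟶ Z'.left).hom.app (op d) (univ K d) = y' := hat_app_univ y'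
      exact e3.trans e4
  exact GlueComma.isIso_of_components f

end Groth.Agent.Helper6.GlueDetect
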