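import Mathlib
import Groth.Prelude.Def_SGA4a
import Groth.Agent.Lib.Helper6.Giraud.GlueCommaLim

set_option linter.unusedSectionVars false
set_option linter.unusedVariables false
set_option linter.unusedSimpArgs false
set_option autoImplicit false
set_option linter.style.haveILetI false
set_option maxHeartbeats 400000

noncomputable section

namespace Groth.Agent.Helper6.GlueComma

open CategoryTheory Limits Opposite

universe v u₁ u₂

/-- In a category with universal small coproducts, every colimit cocone over a discrete diagram is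
universal. -/
theorem isUniversalColimit_of_discrete {A : Type u₁} [Category.{v} A]
    (hbA : SGA4.HasDisjointUniversalCoproducts.{u₁, v} A) {ι : Type v} {F : Discrete ι ⥤ A}
    (c : Cocone F) (hc : IsColimit c) : IsUniversalColimit c := by
  obtain ⟨c₀, hc₀, -, hu₀⟩ := hbA ι (F.obj ∘ Discrete.mk)
  have e : F ≅ Discrete.functor (F.obj ∘ Discrete.mk) := Discrete.natIsoFunctor
  have h1 : IsUniversalColimit ((Cocone.precompose e.hom).obj c₀) :=
    IsUniversalColimit.precompose_isIso e.hom hu₀
  have h2 : IsColimit ((Cocone.precompose e.hom).obj c₀) :=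
    (IsColimit.precomposeHomEquiv e c₀).symm hc₀
  exact h1.of_iso (h2.uniqueUpToIso hc)

variable {A : Type u₁} [Category.{v} A] {B : Type u₂} [Category.{v} B] (R : B ⥤ A)
  [HasFiniteLimits A] [HasFiniteLimits B] [PreservesFiniteLimits R]

/-- Joint reflection of universal colimits for the two projections of a comma category. -/
theorem isUniversalColimit_of_components {I : Type*} [Category I] {F : I ⥤ Comma (𝟭 A) R}
    (c : Cocone F)
    (h₁ : IsUniversalColimit ((Comma.fst (𝟭 A) R).mapCocone c))
    (h₂ : IsUniversalColimit ((Comma.snd (𝟭 A) R).mapCocone c)) : IsUniversalColimit c := by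
  intro F' c' α f h hα H
  refine ⟨Comma.fstSndJointlyReflectColimit ?_ ?_⟩
  · exact (h₁ ((Comma.fst _ _).mapCocone c') (Functor.whiskerRight α _) ((Comma.fst _ _).map f)
      (by ext j; simpa using! (Comma.fst _ _).congr_map (NatTrans.congr_app h j))
      (hα.whiskerRight _) (fun j => (H j).map (Comma.fst (𝟭 A) R))).some
  · exact (h₂ ((Comma.snd _ _).mapCocone c') (Functor.whiskerRight α _) ((Comma.snd _ _).map f)
      (by ext j; simpa using! (Comma.snd _ _).congr_map (NatTrans.congr_app h j))
      (hα.whiskerRight _) (fun j => (H j).map (Comma.snd (𝟭 A) R))).some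

/-- (b) for the glued category. -/
theorem comma_hasDisjointUniversalCoproducts
    (hbA : SGA4.HasDisjointUniversalCoproducts.{u₁, v} A)
    (hbB : SGA4.HasDisjointUniversalCoproducts.{u₂, v} B) :
    SGA4.HasDisjointUniversalCoproducts.{max u₁ u₂ v, v} (Comma (𝟭 A) R) := by
  intro ι X
  obtain ⟨cA, hcA, hdA, huA⟩ := hbA ι (fun i => (X i).left)
  obtain ⟨cB, hcB, hdB, huB⟩ := hbB ι (fun i => (X i).right)
  let pt : Comma (𝟭 A) R :=
    ⟨cA.pt, cB.pt, Cofan.IsColimit.desc hcA (fun i => (X i).hom ≫ R.map (cB.inj i))⟩
  let inj : ∀ i, X i ⟶ pt := fun i =>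
    { left := cA.inj i
      right := cB.inj i
      w := Cofan.IsColimit.fac hcA _ i }
  let c : Cofan X := Cofan.mk pt inj
  have hcA' : IsColimit (Cofan.mk cA.pt cA.inj) :=
    IsColimit.ofIsoColimit hcA (Cofan.ext (Iso.refl _) (fun i => by simp))
  have hcB' : IsColimit (Cofan.mk cB.pt cB.inj) :=
    IsColimit.ofIsoColimit hcB (Cofan.ext (Iso.refl _) (fun i => by simp))
  have h1 : IsColimit ((Comma.fst (𝟭 A) R).mapCocone c) :=
    (isColimitMapCoconeCofanMkEquiv _ _ _).symm hcA'
  have h2 : IsColimit ((Comma.snd (𝟭 A) R).mapCocone c) :=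
    (isColimitMapCoconeCofanMkEquiv _ _ _).symm hcB'
  have hc : IsColimit c := Comma.fstSndJointlyReflectColimit h1 h2
  refine ⟨c, hc, ?_, ?_⟩
  · haveI : ∀ i, Mono (c.inj i) := by
      intro i
      haveI : Mono (cA.inj i) := Mono.of_coproductDisjoint hcA i
      haveI : Mono (cB.inj i) := Mono.of_coproductDisjoint hcB i
      exact mono_of_components (inj i)
    refine CoproductDisjoint.of_cofan hc (fun {i j} _ => pullback.cone (c.inj i) (c.inj j))
      (fun {i j} _ => pullback.isLimit _ _) ?_
    intro i j hij
    have hpb := IsPullback.of_hasPullback (c.inj i) (c.inj j)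
    have hA := hpb.map (Comma.fst (𝟭 A) R)
    have hB := hpb.map (Comma.snd (𝟭 A) R)
    exact isInitialOfComponents
      (CoproductDisjoint.nonempty_isInitial_of_ne hcA hij _ hA.isLimit).some
      (CoproductDisjoint.nonempty_isInitial_of_ne hcB hij _ hB.isLimit).some
  · exact isUniversalColimit_of_components R c (isUniversalColimit_of_discrete hbA _ h1)
      (isUniversalColimit_of_discrete hbB _ h2)

end Groth.Agent.Helper6.GlueComma
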