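import Mathlib
import Groth.Prelude.Def_SGA4a
import Groth.Agent.Lib.Helper6.Giraud.GlueGiraudB
import Groth.Agent.Lib.Helper6.Giraud.EqRelTrans

set_option linter.unusedSectionVars false
set_option linter.unusedVariables false
set_option linter.unusedSimpArgs false
set_option autoImplicit false
set_option linter.style.haveILetI false
set_option maxHeartbeats 400000

noncomputable section

namespace Groth.Agent.Helper6.GlueComma

open CategoryTheory Limits Opposite

universe v u₁ u₂

section General

variable {E : Type u₁} [Category.{v} E]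

/-- An internal equivalence relation is an equivalence relation on generalized points. -/
theorem isEquivRel_of_equivalenceRelation {R A : E} {p₁ p₂ : R ⟶ A}
    (e : EquivalenceRelation p₁ p₂) : SGA4.IsEquivRel p₁ p₂ := by
  intro T
  refine ⟨?_, ⟨?_, ?_, ?_⟩⟩
  · intro k k' hk
    exact e.right_cancellation k k' (congrArg Prod.fst hk) (congrArg Prod.snd hk)
  · intro a
    exact ⟨a ≫ e.r, by simp, by simp⟩
  · rintro a b ⟨k, rfl, rfl⟩
    exact ⟨k ≫ e.s, by rw [Category.assoc, e.symmetry₁], by rw [Category.assoc, e.symmetry₂]⟩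
  · rintro a b c ⟨k, rfl, hk⟩ ⟨k', hk', rfl⟩
    let l := PullbackCone.IsLimit.lift e.isLimit k k' (hk.trans hk'.symm)
    have h1 : l ≫ e.c.fst = k := PullbackCone.IsLimit.lift_fst _ _ _ _
    have h2 : l ≫ e.c.snd = k' := PullbackCone.IsLimit.lift_snd _ _ _ _
    refine ⟨l ≫ e.t, ?_, ?_⟩
    · rw [Category.assoc, e.transitivity₁, ← Category.assoc, h1]
    · rw [Category.assoc, e.transitivity₂, ← Category.assoc, h2]

variable {D : Type u₂} [Category.{v} D] [HasFiniteLimits E] [HasFiniteLimits D]
  (F : E ⥤ D) [PreservesFiniteLimits F]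

theorem jointlyMono₂_map {R A : E} {p₁ p₂ : R ⟶ A} (h : JointlyMono₂ p₁ p₂) :
    JointlyMono₂ (F.map p₁) (F.map p₂) := by
  haveI : Mono (prod.lift p₁ p₂) := by
    constructor
    intro Z a b hab
    apply h.right_cancellation
    · have := congrArg (fun k => k ≫ prod.fst) hab
      simpa only [Category.assoc, prod.lift_fst] using this
    · have := congrArg (fun k => k ≫ prod.snd) hab
      simpa only [Category.assoc, prod.lift_snd] using this
  haveI : Mono (F.map (prod.lift p₁ p₂)) := inferInstance
  constructor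
  intro Y a b h1 h2
  rw [← cancel_mono (F.map (prod.lift p₁ p₂)), ← cancel_mono (prodComparison F A A)]
  apply Limits.prod.hom_ext
  · simp only [Category.assoc, prodComparison_fst, ← F.map_comp, prod.lift_fst]
    exact h1
  · simp only [Category.assoc, prodComparison_snd, ← F.map_comp, prod.lift_snd]
    exact h2

/-- Left exact functors preserve internal equivalence relations. -/
def equivalenceRelationMap {R A : E} {p₁ p₂ : R ⟶ A} (e : EquivalenceRelation p₁ p₂) :
    EquivalenceRelation (F.map p₁) (F.map p₂) := by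
  haveI := jointlyMono₂_map F e.toJointlyMono₂
  exact
    { toReflexiveRelation := e.toReflexiveRelation.map F
      s := (e.toSymmetricRelation.map F).s
      symmetry₁ := (e.toSymmetricRelation.map F).symmetry₁
      symmetry₂ := (e.toSymmetricRelation.map F).symmetry₂
      c := (e.toTransitiveRelation.map F).c
      isLimit := (e.toTransitiveRelation.map F).isLimit
      t := (e.toTransitiveRelation.map F).t
      transitivity₁ := (e.toTransitiveRelation.map F).transitivity₁
      transitivity₂ := (e.toTransitiveRelation.map F).transitivity₂ }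

theorem isEquivRel_map {R A : E} {p₁ p₂ : R ⟶ A} (h : SGA4.IsEquivRel p₁ p₂) :
    SGA4.IsEquivRel (F.map p₁) (F.map p₂) := by
  obtain ⟨e⟩ := Groth.Agent.Helper6.Giraud.equivalenceRelation_of_isEquivRel p₁ p₂ h
  exact isEquivRel_of_equivalenceRelation (equivalenceRelationMap F e)

end General

variable {A : Type u₁} [Category.{v} A] {B : Type u₂} [Category.{v} B] (R : B ⥤ A)
  [HasFiniteLimits A] [HasFiniteLimits B] [PreservesFiniteLimits R]

/-- (c) for the glued category. -/
theorem comma_isEffectiveUniversalEquivRel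
    (hcA : ∀ (R' A' : A) (p₁ p₂ : R' ⟶ A'), SGA4.IsEquivRel p₁ p₂ →
      SGA4.IsEffectiveUniversalEquivRel p₁ p₂)
    (hcB : ∀ (R' A' : B) (p₁ p₂ : R' ⟶ A'), SGA4.IsEquivRel p₁ p₂ →
      SGA4.IsEffectiveUniversalEquivRel p₁ p₂)
    (Rel Obj : Comma (𝟭 A) R) (p₁ p₂ : Rel ⟶ Obj) (h : SGA4.IsEquivRel p₁ p₂) :
    SGA4.IsEffectiveUniversalEquivRel p₁ p₂ := by
  have hA : SGA4.IsEquivRel p₁.left p₂.left := isEquivRel_map (Comma.fst (𝟭 A) R) h
  have hB : SGA4.IsEquivRel p₁.right p₂.right := isEquivRel_map (Comma.snd (𝟭 A) R) h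
  obtain ⟨QA, πA, hpbA, hpoA, heffA⟩ := hcA _ _ _ _ hA
  obtain ⟨QB, πB, hpbB, hpoB, heffB⟩ := hcB _ _ _ _ hB
  have w1 : p₁.left ≫ Obj.hom = Rel.hom ≫ R.map p₁.right := p₁.w
  have w2 : p₂.left ≫ Obj.hom = Rel.hom ≫ R.map p₂.right := p₂.w
  have cond : p₁.left ≫ Obj.hom ≫ R.map πB = p₂.left ≫ Obj.hom ≫ R.map πB := by
    rw [← Category.assoc, w1, ← Category.assoc, w2, Category.assoc, Category.assoc, ← R.map_comp,
      ← R.map_comp, hpbB.w]
  let Q : Comma (𝟭 A) R := ⟨QA, QB, hpoA.desc (Obj.hom ≫ R.map πB) (Obj.hom ≫ R.map πB) cond⟩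
  let π : Obj ⟶ Q :=
    { left := πA
      right := πB
      w := hpoA.inl_desc _ _ _ }
  refine ⟨Q, π, isPullback_of_components hpbA hpbB, isPushout_of_components hpoA hpoB, ?_⟩
  intro B' g
  set e := pullback.snd π g with he
  have hpb := IsPullback.of_hasPullback π g
  have hpbL := hpb.map (Comma.fst (𝟭 A) R)
  have hpbR := hpb.map (Comma.snd (𝟭 A) R)
  -- the components of `e` are effective epimorphisms
  haveI effL : EffectiveEpi e.left := by
    haveI := heffA _ g.left
    have : e.left = hpbL.isoPullback.hom ≫ pullback.snd πA g.left := (hpbL.isoPullback_hom_snd).symm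
    rw [this]
    infer_instance
  haveI effR : EffectiveEpi e.right := by
    haveI := heffB _ g.right
    have : e.right = hpbR.isoPullback.hom ≫ pullback.snd πB g.right :=
      (hpbR.isoPullback_hom_snd).symm
    rw [this]
    infer_instance
  -- kernel pair of `e`
  have hk := IsPullback.of_hasPullback e e
  have hkL := hk.map (Comma.fst (𝟭 A) R)
  have hkR := hk.map (Comma.snd (𝟭 A) R)
  refine effectiveEpi_of_kernelPair e (isColimitCoforkOfComponents pullback.condition ?_ ?_)
  · exact isColimitCoforkOfEffectiveEpi e.left _ hkL.isLimit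
  · exact isColimitCoforkOfEffectiveEpi e.right _ hkR.isLimit

end Groth.Agent.Helper6.GlueComma
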