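import Mathlib
import Groth.Prelude.Def_SGA4a
import Groth.Agent.Lib.Helper6.Giraud.ClosedRefl
import Groth.Agent.Lib.Helper6.Giraud.Glue

set_option linter.unusedSectionVars false
set_option linter.unusedVariables false
set_option linter.unusedSimpArgs false
set_option autoImplicit false
set_option linter.style.haveILetI false
set_option maxHeartbeats 400000

noncomputable section

namespace Groth.Agent.Helper6.Giraud

open CategoryTheory Limits Opposite

universe v u

section abstract

variable {E : Type v} [Category.{u} E] [HasTerminal E] [HasBinaryProducts E]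
variable (U : E) (hU : Mono (terminal.from U))

include hU in
theorem over_forget_full : (Over.forget U).Full :=
  ⟨fun {X Y} f => ⟨Over.homMk f (sub_hom_ext U hU _ _), rfl⟩⟩

include hU in
theorem star_counit_isIso [(Over.star U).IsLeftAdjoint] :
    IsIso (Adjunction.ofIsLeftAdjoint (Over.star U)).counit := by
  haveI := over_forget_full U hU
  let t : Adjunction.Triple (Over.forget U) (Over.star U) (Over.star U).rightAdjoint :=
    ⟨Over.forgetAdjStar U, Adjunction.ofIsLeftAdjoint (Over.star U)⟩
  exact t.isIso_unit_iff_isIso_counit.mp inferInstance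

/-- `j^* i_* Y` is terminal in `E/U`. -/
def star_closed_isTerminal (Y : (SGA4.closedCompl U).FullSubcategory) :
    IsTerminal ((Over.star U).obj ((SGA4.closedCompl U).ι.obj Y)) := by
  have h : IsIso (prod.fst : U ⨯ Y.obj ⟶ U) := Y.property
  let e : ((Over.star U).obj ((SGA4.closedCompl U).ι.obj Y)).left ≅ (Over.mk (𝟙 U)).left :=
    @asIso _ _ (U ⨯ Y.obj) U prod.fst h
  refine IsTerminal.ofIso Over.mkIdTerminal (Over.isoMk e ?_).symm
  change (prod.fst : U ⨯ Y.obj ⟶ U) ≫ 𝟙 U = ((Over.star U).obj Y.obj).hom
  simp [prod.lift_fst]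

end abstract

section sheaf

variable {C : Type u} [SmallCategory C] (J : GrothendieckTopology C)
variable (U : Sheaf J (Type u)) (hU : Mono (terminal.from U))
variable (L : Sheaf J (Type u) ⥤ (SGA4.closedCompl U).FullSubcategory)
  (adj : L ⊣ (SGA4.closedCompl U).ι)

include hU adj in
theorem L_preservesFiniteLimits : PreservesFiniteLimits L := by
  haveI := sheaf_hasPushouts J
  haveI := sheaf_adhesive J
  haveI := L₀_preservesFiniteLimits J U hU
  have e : L₀ U hU ≅ L := (adj₀ U hU).leftAdjointUniq adj
  exact preservesFiniteLimits_of_natIso e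

include hU adj in
theorem glue_equivalence [(Over.star U).IsLeftAdjoint] :
    Nonempty (Sheaf J (Type u) ≌
      Comma (𝟭 (SGA4.closedCompl U).FullSubcategory) ((Over.star U).rightAdjoint ⋙ L)) := by
  haveI := sheaf_hasPushouts J
  haveI := sheaf_adhesive J
  haveI := L_preservesFiniteLimits J U hU L adj
  haveI := star_counit_isIso U hU
  haveI : PreservesLimitsOfSize.{0, 0} (Over.star U) :=
    (Over.forgetAdjStar U).rightAdjoint_preservesLimits
  haveI := Glue.glueFunctor_isEquivalence (Adjunction.ofIsLeftAdjoint (Over.star U)) adj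
    (fun Y => star_closed_isTerminal U Y)
    (fun {X X'} m h1 h2 => (conservative_abstract U hU L adj m).mpr ⟨h1, h2⟩)
  exact ⟨(Glue.glueFunctor (Adjunction.ofIsLeftAdjoint (Over.star U)) (iS := L)).asEquivalence⟩

end sheaf

end Groth.Agent.Helper6.Giraud
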