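import Mathlib
import Groth.Prelude.Def_SGA4a
import Groth.Agent.Lib.Helper6.Giraud.CanonLim

set_option linter.unusedSectionVars false
set_option linter.unusedVariables false
set_option linter.unusedSimpArgs false
set_option autoImplicit false
set_option linter.style.haveILetI false
set_option maxHeartbeats 400000

noncomputable section

namespace Groth.Agent.Helper6.Giraud

open CategoryTheory Limits Opposite

universe u

section OneSite

variable {C : Type u} [SmallCategory C] {J : GrothendieckTopology C}

/-- Index type of the sections lying in a sieve. -/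
abbrev secIdx {X : Sheaf J (Type u)} (S : Sieve X) : Type u := Σ c : Cᵒᵖ, (secSub S).toFunctor.obj c

/-- Step 1: a locally surjective sieve contains a small jointly epimorphic family. -/
theorem LS.isEpiFamily {X : Sheaf J (Type u)} {S : Sieve X} (hS : LS S) :
    SGA4.IsEpiFamily (fun i : secIdx S => hat' i.1 i.2.1) := by
  intro Z a b h
  apply ObjectProperty.hom_ext
  ext c y
  have hZ : Presieve.IsSheaf J Z.obj := (isSheaf_iff_isSheaf_of_type _ _).1 Z.property
  refine (hZ.isSeparated _ (hS c y)).ext ?_
  intro d r hr
  have e1 : Z.obj.map r.op (a.hom.app c y) = a.hom.app (op d) (X.obj.map r.op y) :=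
    (NatTrans.naturality_apply a.hom r.op y).symm
  have e2 : Z.obj.map r.op (b.hom.app c y) = b.hom.app (op d) (X.obj.map r.op y) :=
    (NatTrans.naturality_apply b.hom r.op y).symm
  refine e1.trans (Eq.trans ?_ e2.symm)
  have h1 := h ⟨op d, ⟨X.obj.map r.op y, hr⟩⟩
  have h2 := congrArg (fun k => k.hom.app (op d) (univ J d)) h1
  change a.hom.app (op d) ((hat' (op d) (X.obj.map r.op y)).hom.app (op d) (univ J d)) =
    b.hom.app (op d) ((hat' (op d) (X.obj.map r.op y)).hom.app (op d) (univ J d)) at h2
  rw [hat_app_univ (c := d)] at h2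
  exact h2

/-- The maximal sieve is locally surjective. -/
theorem LS_top (X : Sheaf J (Type u)) : LS (⊤ : Sieve X) := by
  intro c x
  refine J.superset_covering ?_ (J.top_mem c.unop)
  intro d r _
  trivial

/-- Step 2: in a sheaf topos, a jointly epimorphic family generates a locally surjective sieve. -/
theorem LS_generate_of_isEpiFamily {ι : Type u} {H : Sheaf J (Type u)} {G : ι → Sheaf J (Type u)}
    (g : ∀ i, G i ⟶ H) (hg : SGA4.IsEpiFamily g) :
    LS (Sieve.generate (Presieve.ofArrows G g)) := by
  set S' := Sieve.generate (Presieve.ofArrows G g) with hS'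
  let Y : Subfunctor H.obj := (secSub S').sheafify J
  have hH : Presieve.IsSheaf J H.obj := (isSheaf_iff_isSheaf_of_type _ _).1 H.property
  let X'' : Sheaf J (Type u) :=
    ⟨Y.toFunctor, (isSheaf_iff_isSheaf_of_type _ _).2 (Subfunctor.sheafify_isSheaf _ hH)⟩
  let ι'' : X'' ⟶ H := ObjectProperty.homMk Y.ι
  have hgi : ∀ i, S'.arrows (g i) := fun i => Sieve.le_generate _ _ _ (Presieve.ofArrows.mk i)
  let l : ∀ i, G i ⟶ X'' := fun i =>
    ObjectProperty.homMk
      { app := fun c => ↾ fun t =>
          (⟨(g i).hom.app c t,
            (secSub S').le_sheafify J c (app_mem_secSub S' (g i) (hgi i) c t)⟩ : Y.obj c)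
        naturality := by
          intro c d k
          ext t
          apply Subtype.ext
          exact NatTrans.naturality_apply (g i).hom k t }
  have hl : ∀ i, l i ≫ ι'' = g i := by
    intro i
    apply ObjectProperty.hom_ext
    ext c t
    rfl
  haveI : Epi ι'' := by
    constructor
    intro Z a b hab
    apply hg Z a b
    intro i
    rw [← hl i, Category.assoc, Category.assoc, hab]
  have hls : Sheaf.IsLocallySurjective ι'' := (Sheaf.isLocallySurjective_iff_epi ι'').2 inferInstance
  intro c y
  refine J.transitive (Presheaf.imageSieve_mem J ι''.hom (U := c) y) _ ?_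
  rintro d r ⟨t, ht⟩
  have ht' : (t : Y.obj (op d)).1 = H.obj.map r.op y := ht
  have h2 : (secSub S').sieveOfSection (H.obj.map r.op y) ∈ J d := by
    rw [← ht']
    exact (t : Y.obj (op d)).2
  refine J.superset_covering ?_ h2
  intro e r' hr'
  change H.obj.map (r' ≫ r).op y ∈ (secSub S').obj (op e)
  rw [op_comp, Functor.map_comp_apply]
  exact hr'

end OneSite

end Groth.Agent.Helper6.Giraud
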