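import Mathlib
import Groth.Prelude.Def_SGA4a
import Groth.Agent.Lib.Helper6.Giraud.LexEpi

set_option linter.unusedSectionVars false
set_option linter.unusedVariables false
set_option linter.unusedSimpArgs false
set_option autoImplicit false
set_option linter.style.haveILetI false
set_option maxHeartbeats 400000

noncomputable section

namespace Groth.Agent.Helper6.Giraud

open CategoryTheory Limits Opposite

universe u

variable {C D : Type u} [SmallCategory C] [SmallCategory D]
  {J : GrothendieckTopology C} {K : GrothendieckTopology D}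
  (f : Sheaf J (Type u) ⥤ Sheaf K (Type u))

/-- Step 3: `Hom(f -, Z)` is a sheaf for the canonical topology when `f` is left exact and
preserves small epimorphic families. -/
theorem lex_epi_isSheaf [PreservesFiniteLimits f] (hf : SGA4.PreservesEpiFamilies.{u + 1, u + 1, u} f)
    (Z : Sheaf K (Type u)) :
    Presieve.IsSheaf (Sheaf.canonicalTopology (Sheaf J (Type u))) (f.op ⋙ yoneda.obj Z) := by
  intro X S hS
  have hLS : LS S := LS_of_mem_canonical hS
  intro x hx
  have hx' := hx.to_sieveCompatible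
  -- the small epi family
  let Gi : secIdx S → Sheaf J (Type u) := fun i => yS J i.1.unop
  let gi : ∀ i : secIdx S, Gi i ⟶ X := fun i => hat' i.1 i.2.1
  have hgiS : ∀ i, S.arrows (gi i) := fun i => i.2.2
  have hepi : SGA4.IsEpiFamily (fun i => f.map (gi i)) := hf _ X Gi gi hLS.isEpiFamily
  have hLS' := LS_generate_of_isEpiFamily (fun i => f.map (gi i)) hepi
  have h1 : Presieve.IsSheafFor (yoneda.obj Z)
      (Presieve.ofArrows (fun i => f.obj (Gi i)) (fun i => f.map (gi i))) := by
    rw [Presieve.isSheafFor_iff_generate]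
    exact Sheaf.isSheaf_yoneda_obj Z _ hLS'.mem_canonical
  rw [Presieve.isSheafFor_arrows_iff] at h1
  -- the family
  let xi : ∀ i : secIdx S, (yoneda.obj Z).obj (op (f.obj (Gi i))) := fun i => x (gi i) (hgiS i)
  have hcompat : Presieve.Arrows.Compatible (yoneda.obj Z) (fun i => f.map (gi i)) xi := by
    intro i j T' a b hab
    have hpb := IsPullback.map f (IsPullback.of_hasPullback (gi i) (gi j))
    obtain ⟨l, hl1, hl2⟩ : ∃ l : T' ⟶ f.obj (pullback (gi i) (gi j)),
        l ≫ f.map (pullback.fst _ _) = a ∧ l ≫ f.map (pullback.snd _ _) = b :=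
      ⟨hpb.lift a b hab, hpb.lift_fst _ _ _, hpb.lift_snd _ _ _⟩
    have c1 := hx' (gi i) (pullback.fst (gi i) (gi j)) (hgiS i)
    have c2 := hx' (gi j) (pullback.snd (gi i) (gi j)) (hgiS j)
    have c3 : x (pullback.fst (gi i) (gi j) ≫ gi i) (S.downward_closed (hgiS i) _) =
        x (pullback.snd (gi i) (gi j) ≫ gi j) (S.downward_closed (hgiS j) _) :=
      family_congr x pullback.condition _ _
    change a ≫ xi i = b ≫ xi j
    rw [← hl1, ← hl2, Category.assoc, Category.assoc]
    congr 1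
    exact c1.symm.trans (c3.trans c2)
  obtain ⟨s, hs, hsu⟩ := h1 xi hcompat
  have hs' : ∀ i : secIdx S, f.map (gi i) ≫ s = x (gi i) (hgiS i) := hs
  refine ⟨s, ?_, ?_⟩
  · intro T k hk
    change f.map k ≫ s = x k hk
    -- test on the epi family of `T`
    have hT := hf _ T _ _ (LS_top T).isEpiFamily
    apply hT
    intro i
    change f.map (hat' i.1 i.2.1) ≫ f.map k ≫ s = f.map (hat' i.1 i.2.1) ≫ x k hk
    have hmem : k.hom.app i.1 i.2.1 ∈ (secSub S).obj i.1 := app_mem_secSub S k hk i.1 i.2.1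
    have e1 := hs' ⟨i.1, ⟨k.hom.app i.1 i.2.1, hmem⟩⟩
    have e2 : hat' i.1 (k.hom.app i.1 i.2.1) = hat' i.1 i.2.1 ≫ k := hat'_hom_app k i.1 i.2.1
    have e3 : x (hat' i.1 (k.hom.app i.1 i.2.1)) hmem =
        x (hat' i.1 i.2.1 ≫ k) (S.downward_closed hk _) := family_congr x e2 _ _
    have e4 := hx' k (hat' i.1 i.2.1) hk
    have e5 : f.map (hat' i.1 i.2.1) ≫ x k hk = x (hat' i.1 i.2.1 ≫ k) (S.downward_closed hk _) :=
      e4.symm
    rw [e5, ← e3, ← Category.assoc, ← f.map_comp, ← e2]
    exact e1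
  · intro s' hs''
    apply hsu
    intro i
    exact hs'' (gi i) (hgiS i)

/-- Step 4: the right adjoint. -/
theorem lex_epi_isLeftAdjoint [PreservesFiniteLimits f]
    (hf : SGA4.PreservesEpiFamilies.{u + 1, u + 1, u} f) : f.IsLeftAdjoint := by
  have hsh := fun Z => lex_epi_isSheaf f hf Z
  have hT : ∀ Z, ThetaBij (f.op ⋙ yoneda.obj Z) := fun Z => ThetaBij_of_isSheaf (hsh Z)
  let gobj : Sheaf K (Type u) → Sheaf J (Type u) := fun Z =>
    ⟨restr (f.op ⋙ yoneda.obj Z), (isSheaf_iff_isSheaf_of_type _ _).2 (hT Z).isSheaf_restr⟩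
  let e : ∀ (X : Sheaf J (Type u)) (Z : Sheaf K (Type u)), (f.obj X ⟶ Z) ≃ (X ⟶ gobj Z) :=
    fun X Z => (Equiv.ofBijective _ (hT Z X X.obj (𝟙 _))).trans (homEquivFam X (gobj Z)).symm
  have he : ∀ X' X Z (k : X' ⟶ X) (g : f.obj X ⟶ Z), e X' Z (f.map k ≫ g) = k ≫ e X Z g := by
    intro X' X Z k g
    apply (homEquivFam X' (gobj Z)).injective
    change (homEquivFam X' (gobj Z)) ((homEquivFam X' (gobj Z)).symm _) = _
    rw [Equiv.apply_symm_apply]
    have := Theta_id_naturality (G := f.op ⋙ yoneda.obj Z) k g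
    refine Eq.trans this ?_
    refine Fam.ext (funext fun c => funext fun y => ?_)
    rfl
  exact ⟨_, ⟨Adjunction.adjunctionOfEquivRight e he⟩⟩

end Groth.Agent.Helper6.Giraud
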