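import Mathlib

set_option linter.unusedSectionVars false
set_option linter.unusedVariables false
set_option linter.unusedSimpArgs false
set_option autoImplicit false
set_option linter.style.haveILetI false
set_option maxHeartbeats 400000

noncomputable section

namespace Groth.Agent.Helper6.SheafAcc

open CategoryTheory Limits Opposite

universe u

variable {C : Type u} [SmallCategory C] (J : GrothendieckTopology C)

/-- The diagram of evaluation functors indexed by a sieve. -/
abbrev Fam {c : C} (S : Sieve c) :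
    (S.arrows.category)ᵒᵖ ⥤ (Cᵒᵖ ⥤ Type u) ⥤ Type u :=
  S.arrows.diagram.op ⋙ evaluation Cᵒᵖ (Type u)

/-- The comparison natural transformation `ev_c ⟶ lim_{f ∈ S} ev_{dom f}`. -/
def tau {c : C} (S : Sieve c) :
    (evaluation Cᵒᵖ (Type u)).obj (op c) ⟶ limit (Fam S) :=
  limit.lift (Fam S) ((evaluation Cᵒᵖ (Type u)).mapCone S.arrows.cocone.op)

/-- The cone `Q.mapCone S.arrows.cocone.op` seen over `Fam S ⋙ ev_Q`. -/
def coneQ {c : C} (S : Sieve c) (Q : Cᵒᵖ ⥤ Type u) :
    Cone (Fam S ⋙ (evaluation _ _).obj Q) :=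
  ((evaluation _ _).obj Q).mapCone ((evaluation Cᵒᵖ (Type u)).mapCone S.arrows.cocone.op)

def limQ {c : C} (S : Sieve c) (Q : Cᵒᵖ ⥤ Type u) :
    IsLimit (((evaluation _ _).obj Q).mapCone (limit.cone (Fam S))) :=
  isLimitOfPreserves _ (limit.isLimit _)

lemma limQ_lift {c : C} (S : Sieve c) (Q : Cᵒᵖ ⥤ Type u) :
    (limQ S Q).lift (coneQ S Q) = (tau S).app Q := by
  symm
  refine (limQ S Q).uniq (coneQ S Q) ((tau S).app Q) (fun k => ?_)
  have := congr_app (limit.lift_π ((evaluation Cᵒᵖ (Type u)).mapCone S.arrows.cocone.op) k) Q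
  exact this

lemma isIso_tau_app_iff {c : C} (S : Sieve c) (Q : Cᵒᵖ ⥤ Type u) :
    IsIso ((tau S).app Q) ↔ Nonempty (IsLimit (Q.mapCone S.arrows.cocone.op)) := by
  constructor
  · intro h
    haveI : IsIso ((limQ S Q).lift (coneQ S Q)) := by rw [limQ_lift]; exact h
    have h2 : IsLimit (coneQ S Q) := IsLimit.ofPointIso (limQ S Q)
    exact ⟨h2⟩
  · rintro ⟨h⟩
    have h2 : IsLimit (coneQ S Q) := h
    rw [← limQ_lift]
    exact (inferInstance : IsIso (h2.conePointUniqueUpToIso (limQ S Q)).hom)

variable {J}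

theorem isSheaf_of_isColimit {κ : Cardinal.{u}} [Fact κ.IsRegular]
    (hκ : ∀ (c : C) (S : Sieve c), HasCardinalLT (Arrow (S.arrows.category)ᵒᵖ) κ)
    {I : Type u} [SmallCategory I] [IsCardinalFiltered I κ]
    (D : I ⥤ Cᵒᵖ ⥤ Type u) (hD : ∀ i, Presheaf.IsSheaf J (D.obj i))
    (cc : Cocone D) (hcc : IsColimit cc) : Presheaf.IsSheaf J cc.pt := by
  rw [Presheaf.isSheaf_iff_isLimit]
  intro c S hS
  rw [← isIso_tau_app_iff]
  haveI : ∀ k, ((Fam S).obj k).IsCardinalAccessible κ := fun k => by
    haveI : PreservesColimitsOfSize.{u, u} ((Fam S).obj k) := by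
      dsimp [Fam]
      infer_instance
    infer_instance
  haveI : (limit (Fam S)).IsCardinalAccessible κ :=
    Functor.isCardinalAccessible_of_isLimit (limit.cone (Fam S)) (limit.isLimit _) κ (hκ c S)
  haveI := (limit (Fam S)).preservesColimitsOfShape_of_isCardinalAccessible κ I
  have h1 : IsColimit (((evaluation Cᵒᵖ (Type u)).obj (op c)).mapCocone cc) :=
    isColimitOfPreserves _ hcc
  have h2 : IsColimit ((limit (Fam S)).mapCocone cc) := isColimitOfPreserves _ hcc
  haveI : ∀ i, IsIso ((Functor.whiskerLeft D (tau S)).app i) := fun i => by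
    have := (isIso_tau_app_iff S (D.obj i)).2 ((Presheaf.isSheaf_iff_isLimit J _).1 (hD i) S hS)
    exact this
  haveI : IsIso (Functor.whiskerLeft D (tau S)) := NatIso.isIso_of_isIso_app _
  have e := IsColimit.coconePointsIsoOfNatIso h1 h2 (asIso (Functor.whiskerLeft D (tau S)))
  have he : (tau S).app cc.pt =
      (IsColimit.coconePointsIsoOfNatIso h1 h2 (asIso (Functor.whiskerLeft D (tau S)))).hom := by
    refine h1.hom_ext (fun i => ?_)
    rw [IsColimit.comp_coconePointsIsoOfNatIso_hom]
    exact ((tau S).naturality (cc.ι.app i))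
  rw [he]
  infer_instance

theorem sheafToPresheaf_isCardinalAccessible {κ : Cardinal.{u}} [Fact κ.IsRegular]
    (hκ : ∀ (c : C) (S : Sieve c), HasCardinalLT (Arrow (S.arrows.category)ᵒᵖ) κ) :
    (sheafToPresheaf J (Type u)).IsCardinalAccessible κ where
  preservesColimitOfShape I _ _ := by
    constructor
    intro D
    let cc := colimit.cocone (D ⋙ sheafToPresheaf J (Type u))
    have hcc : IsColimit cc := colimit.isColimit _
    have hsh : Presheaf.IsSheaf J cc.pt :=
      isSheaf_of_isColimit hκ (D ⋙ sheafToPresheaf J (Type u)) (fun i => (D.obj i).property)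
        cc hcc
    let cs : Cocone D :=
      { pt := ⟨cc.pt, hsh⟩
        ι :=
          { app := fun i => ObjectProperty.homMk (cc.ι.app i)
            naturality := fun i j f => by
              apply ObjectProperty.hom_ext
              exact cc.ι.naturality f } }
    have hcs' : IsColimit ((sheafToPresheaf J (Type u)).mapCocone cs) := hcc
    have hcs : IsColimit cs := isColimitOfReflects (sheafToPresheaf J (Type u)) hcs'
    exact preservesColimit_of_preserves_colimit_cocone hcs hcs'

end Groth.Agent.Helper6.SheafAcc
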