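import Mathlib

set_option linter.unusedSectionVars false
set_option linter.unusedVariables false
set_option linter.unusedSimpArgs false
set_option autoImplicit false
set_option linter.style.haveILetI false
set_option maxHeartbeats 400000

noncomputable section

namespace Groth.Agent.Helper6.Giraud

open CategoryTheory Limits

universe w u

/-- Coproducts in `Type u` are van Kampen (cofan version). -/
theorem types_cofan_vanKampen' {ι : Type w} {X X' : ι → Type u} (c : Cofan X) (hc : IsColimit c)
    (c' : Cofan X') (α : Discrete.functor X' ⟶ Discrete.functor X) (f : c'.pt ⟶ c.pt)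
    (e : α ≫ c.ι = c'.ι ≫ (Functor.const _).map f) :
    Nonempty (IsColimit c') ↔
      ∀ j : Discrete ι, IsPullback (c'.ι.app j) (α.app j) f (c.ι.app j) := by
  have e' : ∀ (i : ι) (x : X' i), c.inj i (α.app ⟨i⟩ x) = f (c'.inj i x) := by
    intro i x
    exact ConcreteCategory.congr_hom (NatTrans.congr_app e ⟨i⟩) x
  constructor
  · rintro ⟨hc'⟩ ⟨i⟩
    rw [Types.isPullback_iff]
    refine ⟨(NatTrans.congr_app e ⟨i⟩).symm, ?_, ?_⟩
    · rintro x₁ y₁ ⟨h₁, -⟩
      exact Cofan.inj_injective_of_isColimit hc' i h₁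
    · intro y x hyx
      obtain ⟨j, z, rfl⟩ := Cofan.inj_jointly_surjective_of_isColimit hc' y
      have h1 : c.inj j (α.app ⟨j⟩ z) = c.inj i x := by
        rw [e' j z]; exact hyx
      obtain rfl := Cofan.eq_of_inj_apply_eq_of_isColimit hc _ _ h1
      exact ⟨z, rfl, Cofan.inj_injective_of_isColimit hc j h1⟩
  · intro H
    rw [Cofan.nonempty_isColimit_iff_bijective_fromSigma]
    constructor
    · rintro ⟨i, x⟩ ⟨j, y⟩ h
      have h' : c'.inj i x = c'.inj j y := h
      have h1 : c.inj i (α.app ⟨i⟩ x) = c.inj j (α.app ⟨j⟩ y) := by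
        rw [e', e', h']
      obtain rfl := Cofan.eq_of_inj_apply_eq_of_isColimit hc _ _ h1
      have h2 := Cofan.inj_injective_of_isColimit hc i h1
      have := Types.ext_of_isPullback (H ⟨i⟩) h' h2
      subst this
      rfl
    · intro y
      obtain ⟨i, x, hx⟩ := Cofan.inj_jointly_surjective_of_isColimit hc (f y)
      obtain ⟨x', hx', -⟩ := Types.exists_of_isPullback (H ⟨i⟩) y x hx.symm
      exact ⟨⟨i, x'⟩, hx'⟩

/-- Coproducts in `Type u` are van Kampen. -/
theorem types_coproduct_vanKampen {ι : Type w} (F : Discrete ι ⥤ Type u) (c : Cocone F)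
    (hc : IsColimit c) : IsVanKampenColimit c := by
  let X : ι → Type u := F.obj ∘ Discrete.mk
  have hF : F = Discrete.functor X :=
    Functor.hext (fun i ↦ rfl) (by rintro ⟨i⟩ ⟨j⟩ ⟨⟨rfl : i = j⟩⟩; simp [X])
  clear_value X
  subst hF
  intro F' c' α f e hα
  let X' : ι → Type u := F'.obj ∘ Discrete.mk
  have hF' : F' = Discrete.functor X' :=
    Functor.hext (fun i ↦ rfl) (by rintro ⟨i⟩ ⟨j⟩ ⟨⟨rfl : i = j⟩⟩; simp [X'])
  clear_value X'
  subst hF'
  exact types_cofan_vanKampen' c hc c' α f e

end Groth.Agent.Helper6.Giraud
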