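import Mathlib
import Groth.Agent.Lib.Helper6.Giraud.TypesVK

set_option linter.unusedSectionVars false
set_option linter.unusedVariables false
set_option linter.unusedSimpArgs false
set_option autoImplicit false
set_option linter.style.haveILetI false
set_option maxHeartbeats 400000

noncomputable section

namespace Groth.Agent.Helper6.Giraud

open CategoryTheory Limits

universe u

variable {C : Type u} [SmallCategory C]

/-- Coproducts of presheaves of sets are van Kampen. -/
theorem presheaf_coproduct_vanKampen {ι : Type u} (F : Discrete ι ⥤ Cᵒᵖ ⥤ Type u)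
    (c : Cocone F) (hc : IsColimit c) : IsVanKampenColimit c :=
  isVanKampenColimit_of_evaluation F c
    (fun x => types_coproduct_vanKampen _ _ (isColimitOfPreserves _ hc))

variable (J : GrothendieckTopology C)

theorem sheaf_hasInitial : HasInitial (Sheaf J (Type u)) := Sheaf.instHasColimitsOfShape

theorem sheaf_coproduct_vanKampen_aux {ι : Type u} (X : ι → Sheaf J (Type u)) :
    ∃ c : Cocone ((Discrete.functor X ⋙ sheafToPresheaf J (Type u)) ⋙
      presheafToSheaf J (Type u)), IsVanKampenColimit c := by
  let F : Discrete ι ⥤ Sheaf J (Type u) := Discrete.functor X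
  let c₀ : Cocone (F ⋙ sheafToPresheaf J (Type u)) := colimit.cocone _
  have H : IsVanKampenColimit c₀ := presheaf_coproduct_vanKampen _ c₀ (colimit.isColimit _)
  exact ⟨_, IsVanKampenColimit.map_reflective (Gl := presheafToSheaf J (Type u))
    (Gr := sheafToPresheaf J (Type u)) (F := F) (c := c₀)
    (sheafificationAdjunction J (Type u)) H⟩

/-- Every small family of sheaves of sets has a van Kampen coproduct cofan. -/
theorem sheaf_coproduct_vanKampen {ι : Type u} (X : ι → Sheaf J (Type u)) :
    ∃ c : Cofan X, IsVanKampenColimit c := by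
  obtain ⟨c, hc⟩ := sheaf_coproduct_vanKampen_aux J X
  let F : Discrete ι ⥤ Sheaf J (Type u) := Discrete.functor X
  let β : (F ⋙ sheafToPresheaf J (Type u)) ⋙ presheafToSheaf J (Type u) ≅ F :=
    Functor.associator _ _ _ ≪≫
      Functor.isoWhiskerLeft F (asIso (sheafificationAdjunction J (Type u)).counit) ≪≫
      F.rightUnitor
  exact ⟨(Cocone.precompose β.inv).obj c, IsVanKampenColimit.precompose_isIso β.inv hc⟩

theorem disjoint_of_vanKampen {ι : Type u} (X : ι → Sheaf J (Type u)) (c : Cofan X)
    (hc : IsVanKampenColimit c) : CoproductDisjoint X := by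
  have := sheaf_hasInitial J
  have hm : ∀ i, Mono (c.inj i) := fun i => mono_of_cofan_isVanKampen hc ⟨i⟩
  have hp : ∀ {i j : ι} (hij : i ≠ j),
      IsPullback (initial.to _) (initial.to _) (c.inj i) (c.inj j) :=
    fun {i j} hij => isPullback_initial_to_of_cofan_isVanKampen hc ⟨i⟩ ⟨j⟩
      (by intro h; exact hij (Discrete.ext_iff.mp h))
  exact CoproductDisjoint.of_cofan hc.isColimit
    (fun {i j} hij => (hp hij).cone)
    (fun {i j} hij => (hp hij).isLimit)
    (fun {i j} hij => initialIsInitial)

/-- Consequences: the coproduct is a colimit, disjoint, and universal. -/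
theorem sheaf_hasDisjointUniversalCoproducts {ι : Type u} (X : ι → Sheaf J (Type u)) :
    ∃ (c : Cofan X) (_ : IsColimit c), CoproductDisjoint X ∧ IsUniversalColimit c := by
  obtain ⟨c, hc⟩ := sheaf_coproduct_vanKampen J X
  exact ⟨c, hc.isColimit, disjoint_of_vanKampen J X c hc, hc.isUniversal⟩

end Groth.Agent.Helper6.Giraud
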